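import Cfsg.Agent.Lib.Recog.QuasiPrim.Socle

/-!
Derangement classes of primitive groups that are not almost simple.
-/

set_option autoImplicit false
set_option linter.unusedSectionVars false
set_option linter.style.haveILetI false

namespace Cfsg.Lib.Recog.QuasiPrim

variable {G : Type*} [Group G] [Finite G] {Ω : Type*} [MulAction G Ω] [FaithfulSMul G Ω] [Finite Ω]

theorem two_of_card {g : G} {a b : Ω} (hab : a ≠ b) (ha : g • a = a) (hb : g • b = b) :
    2 ≤ Nat.card (MulAction.fixedBy Ω g) :=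
  Finite.one_lt_card_iff_nontrivial.2 ⟨⟨a, ha⟩, ⟨b, hb⟩, fun e => hab (congrArg Subtype.val e)⟩

theorem not_subsingleton_group [Nontrivial Ω] (ht : MulAction.IsPretransitive G Ω) : ¬ Subsingleton G := by
  intro h
  obtain ⟨a, b, hab⟩ := exists_pair_ne Ω
  obtain ⟨g, hg⟩ := ht.exists_smul_eq a b
  rw [Subsingleton.elim g 1, one_smul] at hg
  exact hab hg

/-- If every element of a coset of a regular subgroup has a fixed point, it has exactly one. -/
theorem unique_fixed {N : Subgroup G} (hNt : MulAction.IsPretransitive N Ω)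
    (hreg : ∀ a : Ω, MulAction.stabilizer N a = ⊥) {g : G} (hall : ∀ x ∈ N, ∃ ω : Ω, (x * g) • ω = ω)
    {a b : Ω} (ha : g • a = a) (hb : g • b = b) : a = b := by
  classical
  choose φ hφ using fun ω : Ω => hNt.exists_smul_eq (g • ω) ω
  have hφu : ∀ (ω : Ω) (x : N), (x.1 * g) • ω = ω → φ ω = x := by
    intro ω x hx
    have h1 : x⁻¹ * φ ω ∈ MulAction.stabilizer N (g • ω) := by
      rw [MulAction.mem_stabilizer_iff, mul_smul, hφ, inv_smul_eq_iff, Subgroup.smul_def, ← mul_smul, hx]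
    rw [hreg, Subgroup.mem_bot, inv_mul_eq_one] at h1
    exact h1.symm
  have hsurj : Function.Surjective φ := fun x => by
    obtain ⟨ω, hω⟩ := hall x.1 x.2
    exact ⟨ω, hφu ω x hω⟩
  have hcard : Nat.card Ω = Nat.card N := by
    rw [← Nat.card_congr ((MulAction.orbitEquivQuotientStabilizer N a).symm.trans
      ((Equiv.setCongr (haveI := hNt; MulAction.orbit_eq_univ N a)).trans (Equiv.Set.univ Ω))), ← Subgroup.index_eq_card,
      hreg, Subgroup.index_bot]
  have hinj := ((Nat.bijective_iff_surjective_and_card φ).2 ⟨hsurj, hcard⟩).1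
  exact hinj (((hφu a 1) (by simpa using ha)).trans ((hφu b 1) (by simpa using hb)).symm)

theorem card_der (ht : MulAction.IsPretransitive G Ω) [Nonempty Ω]
    (hfix : ∀ g : G, g ≠ 1 → ∀ a b : Ω, g • a = a → g • b = b → a = b) :
    Nat.card {g : G // ∀ ω : Ω, g • ω ≠ ω} + 1 = Nat.card Ω := by
  classical
  haveI : Fintype G := Fintype.ofFinite G
  haveI : Fintype Ω := Fintype.ofFinite Ω
  have hb := MulAction.sum_card_fixedBy_eq_card_orbits_mul_card_group G Ω
  have h1 : Fintype.card (Quotient (MulAction.orbitRel G Ω)) = 1 := by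
    obtain ⟨b⟩ : Nonempty Ω := inferInstance
    refine Fintype.card_eq_one_iff.2 ⟨Quotient.mk'' b, fun y => ?_⟩
    induction y using Quotient.inductionOn' with
    | h a => exact Quotient.sound' (ht.exists_smul_eq b a)
  rw [h1, one_mul] at hb
  have hone : ∀ g : G, Fintype.card (MulAction.fixedBy Ω g) + (if ∀ ω : Ω, g • ω ≠ ω then 1 else 0) =
      1 + (if g = 1 then Fintype.card Ω - 1 else 0) := by
    intro g
    by_cases hg : g = 1
    · subst hg
      rw [if_neg (fun h => h (Classical.arbitrary Ω) (one_smul G _)), if_pos rfl]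
      have : 0 < Fintype.card Ω := Fintype.card_pos
      have h2 : Fintype.card (MulAction.fixedBy Ω (1 : G)) = Fintype.card Ω :=
        Fintype.card_congr ((Equiv.setCongr (MulAction.fixedBy_one_eq_univ Ω G)).trans (Equiv.Set.univ Ω))
      omega
    rw [if_neg hg]
    by_cases hd : ∀ ω : Ω, g • ω ≠ ω
    · rw [if_pos hd, Fintype.card_eq_zero_iff.2 ⟨fun w => hd w.1 w.2⟩]
    · rw [if_neg hd]
      push Not at hd
      obtain ⟨w, hw⟩ := hd
      exact Fintype.card_eq_one_iff.2 ⟨⟨w, hw⟩, fun v => Subtype.ext (hfix g hg v.1 w v.2 hw)⟩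
  have hsum := Finset.sum_congr rfl (fun g (_ : g ∈ (Finset.univ : Finset G)) => hone g)
  rw [Finset.sum_add_distrib, Finset.sum_add_distrib, hb, Finset.sum_ite_eq' Finset.univ (1 : G),
    if_pos (Finset.mem_univ _), Finset.sum_const, Finset.card_univ, smul_eq_mul, mul_one, ← Finset.card_filter,
    ← Fintype.card_subtype] at hsum
  rw [Nat.card_eq_fintype_card, Nat.card_eq_fintype_card]
  have : 0 < Fintype.card Ω := Fintype.card_pos
  omega

section affine

variable [Nontrivial Ω] {N : Subgroup G} [hNn : N.Normal] (hab : ∀ x ∈ N, ∀ y ∈ N, x * y = y * x)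
  (hNt : MulAction.IsPretransitive N Ω) (hreg : ∀ a : Ω, MulAction.stabilizer N a = ⊥)

include hreg in
theorem reg_unique {x y : G} (hx : x ∈ N) (hy : y ∈ N) {a : Ω} (h : x • a = y • a) : x = y := by
  have h1 : (⟨y⁻¹ * x, N.mul_mem (N.inv_mem hy) hx⟩ : N) ∈ MulAction.stabilizer N a := by
    rw [MulAction.mem_stabilizer_iff, Subgroup.smul_def, mul_smul, h, inv_smul_smul]
  rw [hreg, Subgroup.mem_bot] at h1
  exact (inv_mul_eq_one.1 (congrArg Subtype.val h1)).symm

include hreg in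
theorem reg_move {x : G} (hx : x ∈ N) (hx1 : x ≠ 1) (ω : Ω) : x • ω ≠ ω := fun h =>
  hx1 (reg_unique hreg hx N.one_mem (h.trans (one_smul G ω).symm))

include hab hNt in
theorem conj_in_stabilizer (a : Ω) {x y : G} (hx : x ∈ N) (h : IsConj x y) :
    ∃ k : G, k • a = a ∧ k * x * k⁻¹ = y := by
  obtain ⟨g, hg⟩ := isConj_iff.1 h
  obtain ⟨m, hm⟩ := hNt.exists_smul_eq (g • a) a
  refine ⟨m.1 * g, by rw [mul_smul]; exact hm, ?_⟩
  have hy : y ∈ N := hg ▸ hNn.conj_mem x hx g
  calc m.1 * g * x * (m.1 * g)⁻¹ = m.1 * (g * x * g⁻¹) * m.1⁻¹ := by group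
    _ = y := by rw [hg, hab m.1 m.2 y hy]; group

include hab hNt in
theorem two_transitive_of_conj (a : Ω)
    (hone : ∀ x ∈ N, x ≠ 1 → ∀ y ∈ N, y ≠ 1 → IsConj x y) : MulAction.IsMultiplyPretransitive G Ω 2 := by
  have hstab : ∀ y z : Ω, y ≠ a → z ≠ a → ∃ k : G, k • a = a ∧ k • y = z := by
    intro y z hy hz
    obtain ⟨u, hu⟩ := hNt.exists_smul_eq a y
    obtain ⟨v, hv⟩ := hNt.exists_smul_eq a z
    obtain ⟨k, hka, hk⟩ := conj_in_stabilizer hab hNt a u.2 (hone u.1 u.2
      (fun e => hy (by rw [← hu, Subgroup.smul_def, e, one_smul])) v.1 v.2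
      (fun e => hz (by rw [← hv, Subgroup.smul_def, e, one_smul])))
    refine ⟨k, hka, ?_⟩
    have hki : k⁻¹ • a = a := by rw [inv_smul_eq_iff, hka]
    rw [← hu, ← hv, Subgroup.smul_def, Subgroup.smul_def, ← hk, mul_smul, mul_smul, hki]
  rw [MulAction.is_two_pretransitive_iff]
  intro p r s t hpr hst
  obtain ⟨u, hu⟩ := hNt.exists_smul_eq p a
  obtain ⟨v, hv⟩ := hNt.exists_smul_eq s a
  obtain ⟨k, hka, hk⟩ := hstab (u.1 • r) (v.1 • t)
    (fun e => hpr (smul_left_cancel u.1 (hu.trans e.symm))) (fun e => hst (smul_left_cancel v.1 (hv.trans e.symm)))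
  refine ⟨v.1⁻¹ * (k * u.1), ?_, ?_⟩
  · rw [mul_smul, mul_smul, ← Subgroup.smul_def u, hu, hka, inv_smul_eq_iff, ← Subgroup.smul_def, hv]
  · rw [mul_smul, mul_smul, hk, inv_smul_smul]

include hNt hreg in
theorem fixed_le_one (hder : ∀ g : G, (∀ ω : Ω, g • ω ≠ ω) → g ∈ N) :
    ∀ g : G, g ≠ 1 → ∀ a b : Ω, g • a = a → g • b = b → a = b := by
  intro g hg a b ha hb
  refine unique_fixed hNt hreg (fun x hx => ?_) ha hb
  by_contra h
  push Not at h
  have hgN : g ∈ N := by simpa using N.mul_mem (N.inv_mem hx) (hder _ h)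
  exact reg_move hreg hgN hg a ha

end affine

/-- The alternatives for two classes. -/
theorem two_classes [Nontrivial Ω] (hprim : MulAction.IsPreprimitive G Ω)
    (hnas : ¬ ∃ T : Subgroup G, T.Normal ∧ IsSimpleGroup T ∧ ¬ IsMulCommutative T ∧
      Subgroup.centralizer (T : Set G) = ⊥)
    (hκ : Nat.card (DerClasses G Ω) = 2) (α : Ω) :
    ∃ N : Subgroup G, N.Normal ∧ N ≠ ⊥ ∧ IsMulCommutative N ∧ (∀ ω : Ω, MulAction.stabilizer N ω = ⊥) ∧
      (((∀ g : G, g ≠ 1 → Nat.card (MulAction.fixedBy Ω g) ≤ 1) ∧ ¬ 2 ∣ Nat.card Ω ∧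
          2 * Nat.card (MulAction.stabilizer G α) = Nat.card Ω - 1) ∨
        (MulAction.IsMultiplyPretransitive G Ω 2 ∧ ∃ g : G, g ≠ 1 ∧ 2 ≤ Nat.card (MulAction.fixedBy Ω g))) := by
  classical
  obtain ⟨N, r, -, hNn, hNe, hNt, hreg⟩ | h | h | h := structure_cases (isPreprimitive_normTrans hprim)
  rotate_left
  · exact absurd h hnas
  · exact absurd h (not_subsingleton_group hprim.toIsPretransitive)
  · have := three_classes h
    omega
  haveI := hNn
  have hab : ∀ x ∈ N, ∀ y ∈ N, x * y = y * x := fun x hx y hy =>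
    congrArg Subtype.val (hNe.1.is_comm.comm ⟨x, hx⟩ ⟨y, hy⟩)
  have hN0 : N ≠ ⊥ := by
    intro h
    obtain ⟨a, b, hab'⟩ := exists_pair_ne Ω
    obtain ⟨n, hn⟩ := hNt.exists_smul_eq a b
    rw [Subgroup.smul_def, show n.1 = 1 from Subgroup.mem_bot.1 (h.le n.2), one_smul] at hn
    exact hab' hn
  refine ⟨N, hNn, hN0, hNe.1, hreg, ?_⟩
  have hclasses : ∀ x y z : G, (∀ ω : Ω, x • ω ≠ ω) → (∀ ω : Ω, y • ω ≠ ω) → (∀ ω : Ω, z • ω ≠ ω) →
      IsConj x y ∨ IsConj x z ∨ IsConj y z := by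
    intro x y z hx hy hz
    by_contra h
    push Not at h
    have := three_le_classes hx hy hz h.1 h.2.1 h.2.2
    omega
  by_cases hone : ∀ x ∈ N, x ≠ 1 → ∀ y ∈ N, y ≠ 1 → IsConj x y
  · refine Or.inr ⟨two_transitive_of_conj hab hNt α hone, ?_⟩
    by_contra h
    push Not at h
    have hfix : ∀ g : G, g ≠ 1 → ∀ a b : Ω, g • a = a → g • b = b → a = b := by
      intro g hg a b ha hb
      by_contra hne
      exact (h g hg).not_ge (two_of_card hne ha hb)
    have hD := card_der hprim.toIsPretransitive hfix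
    -- every derangement is in the regular subgroup
    let f : {x : N // x ≠ 1} → {g : G // ∀ ω : Ω, g • ω ≠ ω} := fun x =>
      ⟨x.1.1, reg_move hreg x.1.2 (fun e => x.2 (Subtype.ext e))⟩
    have hf : Function.Injective f := fun x y e => by
      have e' : x.1.1 = y.1.1 := (congrArg Subtype.val e : (f x).1 = (f y).1)
      exact Subtype.ext (Subtype.ext e')
    have hN : Nat.card {x : N // x ≠ 1} + 1 = Nat.card Ω := by
      haveI : Fintype N := Fintype.ofFinite N
      have hc : Nat.card Ω = Nat.card N := by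
        rw [← Nat.card_congr ((MulAction.orbitEquivQuotientStabilizer N α).symm.trans
          ((Equiv.setCongr (haveI := hNt; MulAction.orbit_eq_univ N α)).trans (Equiv.Set.univ Ω))),
          ← Subgroup.index_eq_card, hreg, Subgroup.index_bot]
      rw [hc, Nat.card_eq_fintype_card, Nat.card_eq_fintype_card]
      simp only [ne_eq, Fintype.card_subtype_compl, Fintype.card_subtype_eq]
      have : 0 < Fintype.card N := Fintype.card_pos
      omega
    have hsurj := ((Nat.bijective_iff_injective_and_card f).2 ⟨hf, by omega⟩).2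
    have : Nat.card (DerClasses G Ω) ≤ 1 := by
      refine Finite.card_le_one_iff_subsingleton.2 ⟨fun c d => ?_⟩
      obtain ⟨-, x, rfl, hx⟩ := c
      obtain ⟨-, y, rfl, hy⟩ := d
      obtain ⟨⟨u, hu⟩, e1⟩ := hsurj ⟨x, hx⟩
      obtain ⟨⟨v, hv⟩, e2⟩ := hsurj ⟨y, hy⟩
      refine Subtype.ext (ConjClasses.mk_eq_mk_iff_isConj.2 ?_)
      rw [← show u.1 = x from congrArg Subtype.val e1, ← show v.1 = y from congrArg Subtype.val e2]
      exact hone u.1 u.2 (fun e => hu (Subtype.ext e)) v.1 v.2 (fun e => hv (Subtype.ext e))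
    omega
  left
  push Not at hone
  obtain ⟨x, hx, hx1, y, hy, hy1, hxy⟩ := hone
  have hder : ∀ g : G, (∀ ω : Ω, g • ω ≠ ω) → g ∈ N := by
    intro g hg
    rcases hclasses x y g (reg_move hreg hx hx1) (reg_move hreg hy hy1) hg with h | h | h
    · exact absurd h hxy
    · obtain ⟨k, rfl⟩ := isConj_iff.1 h; exact hNn.conj_mem x hx k
    · obtain ⟨k, rfl⟩ := isConj_iff.1 h; exact hNn.conj_mem y hy k
  have hfix := fixed_le_one hNt hreg hder
  have hle : ∀ g : G, g ≠ 1 → Nat.card (MulAction.fixedBy Ω g) ≤ 1 := fun g hg =>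
    Finite.card_le_one_iff_subsingleton.2 ⟨fun a b => Subtype.ext (hfix g hg a.1 b.1 a.2 b.2)⟩
  -- the two orbits of a point stabiliser
  set H := MulAction.stabilizer G α
  have hy0 : x • α ≠ α := reg_move hreg hx hx1 α
  have hz0 : y • α ≠ α := reg_move hreg hy hy1 α
  let f : Fin 2 × H → {w : Ω // w ≠ α} := fun p => ⟨p.2.1 • ((if p.1 = 0 then x else y) • α), fun e => by
    rw [← eq_inv_smul_iff, inv_smul_eq_iff.2 (MulAction.mem_stabilizer_iff.1 p.2.2).symm] at e
    split_ifs at e with h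
    · exact hy0 e
    · exact hz0 e⟩
  have hval : ∀ (k : H) (w : G), k.1 • (w • α) = (k.1 * w * k.1⁻¹) • α := fun k w => by
    rw [mul_smul, mul_smul, inv_smul_eq_iff.2 (MulAction.mem_stabilizer_iff.1 k.2).symm]
  have hconjH : ∀ (k l : H) (u v : G), u ∈ N → v ∈ N → k.1 • (u • α) = l.1 • (v • α) → IsConj u v := by
    intro k l u v hu hv e
    rw [hval, hval] at e
    have e' := reg_unique hreg (hNn.conj_mem u hu k.1) (hNn.conj_mem v hv l.1) e
    refine isConj_iff.2 ⟨l.1⁻¹ * k.1, ?_⟩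
    calc l.1⁻¹ * k.1 * u * (l.1⁻¹ * k.1)⁻¹ = l.1⁻¹ * (k.1 * u * k.1⁻¹) * l.1 := by group
      _ = v := by rw [e']; group
  have hbij : Function.Bijective f := by
    constructor
    · rintro ⟨i, k⟩ ⟨j, l⟩ e
      have e1 : k.1 • ((if i = 0 then x else y) • α) = l.1 • ((if j = 0 then x else y) • α) :=
        congrArg Subtype.val e
      have hij : i = j := by
        by_contra hne
        fin_cases i <;> fin_cases j
        · exact hne rfl
        · exact hxy (hconjH k l x y hx hy (by simpa using e1))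
        · exact hxy (hconjH k l y x hy hx (by simpa using e1)).symm
        · exact hne rfl
      subst hij
      refine Prod.ext rfl (Subtype.ext ?_)
      by_contra hne
      set w := (if i = 0 then x else y) • α with hw
      have hw0 : w ≠ α := by rw [hw]; split_ifs <;> assumption
      refine hw0 (hfix (l.1⁻¹ * k.1) (fun e' => hne (inv_mul_eq_one.1 e').symm) w α ?_ ?_)
      · rw [mul_smul, e1, inv_smul_smul]
      · rw [mul_smul, MulAction.mem_stabilizer_iff.1 k.2, inv_smul_eq_iff, MulAction.mem_stabilizer_iff.1 l.2]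
    · rintro ⟨w, hw⟩
      obtain ⟨m, hm⟩ := hNt.exists_smul_eq α w
      have hm1 : m.1 ≠ 1 := fun e => hw (by rw [← hm, Subgroup.smul_def, e, one_smul])
      rcases hclasses x y m.1 (reg_move hreg hx hx1) (reg_move hreg hy hy1) (reg_move hreg m.2 hm1) with h | h | h
      · exact absurd h hxy
      · obtain ⟨k, hk, hkm⟩ := conj_in_stabilizer hab hNt α hx h
        refine ⟨(0, ⟨k, hk⟩), Subtype.ext ?_⟩
        show k • ((if (0 : Fin 2) = 0 then x else y) • α) = w
        rw [if_pos rfl, hval ⟨k, hk⟩, hkm, ← hm]; rfl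
      · obtain ⟨k, hk, hkm⟩ := conj_in_stabilizer hab hNt α hy h
        refine ⟨(1, ⟨k, hk⟩), Subtype.ext ?_⟩
        show k • ((if (1 : Fin 2) = 0 then x else y) • α) = w
        rw [if_neg (by decide), hval ⟨k, hk⟩, hkm, ← hm]; rfl
  have hc := Nat.card_eq_of_bijective f hbij
  haveI : Fintype Ω := Fintype.ofFinite Ω
  rw [Nat.card_prod, Nat.card_fin, Nat.card_eq_fintype_card (α := {w : Ω // w ≠ α})] at hc
  simp only [ne_eq, Fintype.card_subtype_compl, Fintype.card_subtype_eq] at hc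
  rw [← Nat.card_eq_fintype_card (α := Ω)] at hc
  have hpos : 0 < Nat.card Ω := Nat.card_pos
  refine ⟨hle, ?_, hc⟩
  omega

/-- A doubly transitive group with free two-point stabilisers has one class of derangements. -/
theorem one_class_of_fix [Nontrivial Ω] (h2 : MulAction.IsMultiplyPretransitive G Ω 2)
    (hfix : ∀ g : G, g ≠ 1 → ∀ a b : Ω, g • a = a → g • b = b → a = b) :
    Nat.card (DerClasses G Ω) = 1 := by
  classical
  have h2' : ∀ (a b c d : Ω), a ≠ b → c ≠ d → ∃ g : G, g • a = c ∧ g • b = d :=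
    fun a b c d hab hcd => (MulAction.is_two_pretransitive_iff (G := G) (α := Ω)).1 h2 hab hcd
  have ht : MulAction.IsPretransitive G Ω := ⟨fun a b => by
    obtain ⟨a', ha'⟩ := exists_ne a
    obtain ⟨b', hb'⟩ := exists_ne b
    obtain ⟨g, hg, -⟩ := h2' a a' b b' ha'.symm hb'.symm
    exact ⟨g, hg⟩⟩
  haveI := ht
  obtain ⟨t, htd⟩ := exists_move_all (T := G) (β := Ω)
  have hD := card_der ht hfix
  obtain ⟨α⟩ : Nonempty Ω := inferInstance
  have hconj : ∀ (w : Ω), w ≠ α → ∃ g : G, (∀ ω : Ω, (g * t * g⁻¹) • ω ≠ ω) ∧ (g * t * g⁻¹) • α = w := by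
    intro w hw
    obtain ⟨g, hg, hgw⟩ := h2' α (t • α) α w (htd α).symm hw.symm
    refine ⟨g, fun ω e => htd (g⁻¹ • ω) ?_, ?_⟩
    · rw [mul_smul, mul_smul] at e
      exact eq_inv_smul_iff.2 e
    · rw [mul_smul, mul_smul, inv_smul_eq_iff.2 hg.symm, hgw]
  choose f hfd hfv using fun w : {w : Ω // w ≠ α} => hconj w.1 w.2
  let F : {w : Ω // w ≠ α} → {g : G // ∀ ω : Ω, g • ω ≠ ω} := fun w => ⟨_, hfd w⟩
  have hF : Function.Injective F := fun v w e => Subtype.ext (by
    rw [← hfv v, ← hfv w, show f v * t * (f v)⁻¹ = f w * t * (f w)⁻¹ from congrArg Subtype.val e])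
  haveI : Fintype Ω := Fintype.ofFinite Ω
  have hcard : Nat.card {w : Ω // w ≠ α} + 1 = Nat.card Ω := by
    rw [Nat.card_eq_fintype_card, Nat.card_eq_fintype_card]
    simp only [ne_eq, Fintype.card_subtype_compl, Fintype.card_subtype_eq]
    have : 0 < Fintype.card Ω := Fintype.card_pos
    omega
  have hsurj := ((Nat.bijective_iff_injective_and_card F).2 ⟨hF, by omega⟩).2
  rw [Nat.card_eq_one_iff_exists]
  refine ⟨⟨_, t, rfl, htd⟩, ?_⟩
  rintro ⟨-, d, rfl, hd⟩
  obtain ⟨w, hw⟩ := hsurj ⟨d, hd⟩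
  refine Subtype.ext (ConjClasses.mk_eq_mk_iff_isConj.2 ?_)
  exact (isConj_iff.2 ⟨f w, congrArg Subtype.val hw⟩).symm

/-- One class: exactly the Frobenius doubly transitive groups. -/
theorem one_class [Nontrivial Ω] (hprim : MulAction.IsPreprimitive G Ω)
    (hnas : ¬ ∃ T : Subgroup G, T.Normal ∧ IsSimpleGroup T ∧ ¬ IsMulCommutative T ∧
      Subgroup.centralizer (T : Set G) = ⊥) :
    Nat.card (DerClasses G Ω) = 1 ↔
      (MulAction.IsMultiplyPretransitive G Ω 2 ∧
        ∀ g : G, g ≠ 1 → ∀ a b : Ω, a ≠ b → g • a = a → g • b ≠ b) := by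
  classical
  refine ⟨fun h1 => ?_, fun h => one_class_of_fix h.1 fun g hg a b ha hb => by
    by_contra hne; exact h.2 g hg a b hne ha hb⟩
  obtain ⟨N, r, -, hNn, hNe, hNt, hreg⟩ | h | h | h := structure_cases (isPreprimitive_normTrans hprim)
  rotate_left
  · exact absurd h hnas
  · exact absurd h (not_subsingleton_group hprim.toIsPretransitive)
  · have h3 := three_classes h
    omega
  haveI := hNn
  have hab : ∀ x ∈ N, ∀ y ∈ N, x * y = y * x := fun x hx y hy =>
    congrArg Subtype.val (hNe.1.is_comm.comm ⟨x, hx⟩ ⟨y, hy⟩)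
  have hsub := (Finite.card_le_one_iff_subsingleton.1 h1.le)
  have hc : ∀ x y : G, (∀ ω : Ω, x • ω ≠ ω) → (∀ ω : Ω, y • ω ≠ ω) → IsConj x y := fun x y hx hy =>
    ConjClasses.mk_eq_mk_iff_isConj.1 (congrArg Subtype.val
      (Subsingleton.elim (α := DerClasses G Ω) ⟨_, x, rfl, hx⟩ ⟨_, y, rfl, hy⟩))
  obtain ⟨α⟩ : Nonempty Ω := inferInstance
  refine ⟨two_transitive_of_conj hab hNt α fun x hx hx1 y hy hy1 =>
    hc x y (reg_move hreg hx hx1) (reg_move hreg hy hy1), fun g hg a b hne ha hb => hne ?_⟩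
  refine fixed_le_one hNt hreg (fun d hd => ?_) g hg a b ha hb
  obtain ⟨m, hm⟩ := hNt.exists_smul_eq a b
  obtain ⟨k, rfl⟩ := isConj_iff.1 (hc m.1 d (reg_move hreg m.2
    (fun e => hne (by rw [← hm, Subgroup.smul_def, e, one_smul]))) hd)
  exact hNn.conj_mem m.1 m.2 k

end Cfsg.Lib.Recog.QuasiPrim
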