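import Cfsg.Agent.Lib.Recog.QuasiPrim.MaxCentraliser

/-!
Primitive groups whose point stabilisers act primitively on every orbit are affine or almost simple.
-/

set_option autoImplicit false
set_option linter.unusedSectionVars false
set_option linter.style.haveILetI false

namespace Cfsg.Lib.Recog.QuasiPrim

variable {G : Type*} [Group G] [Finite G] {Ω : Type*} [MulAction G Ω] [FaithfulSMul G Ω] [Finite Ω]

/-- A regular simple factor with maximal stabilisers is impossible. -/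
theorem core_contradiction (a : Ω) (T C : Subgroup G) [IsSimpleGroup T] (hns : ¬ Group.IsSolvable T)
    (hcomm : ∀ u ∈ T, ∀ c ∈ C, u * c = c * u) (hbij : Function.Bijective fun u : T => u.1 • a)
    (hex : ∀ u ∈ T, ∃ c ∈ C, (u * c) • a = a)
    (hconj : ∀ h ∈ MulAction.stabilizer G a, (∀ u ∈ T, h * u * h⁻¹ ∈ T) ∨ (∀ u ∈ T, h * u * h⁻¹ ∈ C))
    (hnorm : ∀ h ∈ MulAction.stabilizer G a, ∀ x ∈ T ⊔ C, h * x * h⁻¹ ∈ T ⊔ C)
    (hmax : ∀ b : Ω, b ≠ a → IsCoatom (MulAction.stabilizer (MulAction.stabilizer G a) b)) : False := by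
  classical
  set H := MulAction.stabilizer G a with hH
  let e : T ≃ Ω := Equiv.ofBijective _ hbij
  have he : ∀ x : T, (e x : Ω) = x.1 • a := fun x => rfl
  have hfix : ∀ h : H, h.1 • a = a := fun h => h.2
  have hfix' : ∀ h : H, h.1⁻¹ • a = a := fun h => inv_smul_eq_iff.2 (hfix h).symm
  letI act : MulAction H T :=
    { smul := fun h x => e.symm (h.1 • e x)
      one_smul := fun x => show e.symm ((1 : G) • e x) = x by rw [one_smul, e.symm_apply_apply]
      mul_smul := fun g h x => show e.symm ((g.1 * h.1) • e x) = e.symm (g.1 • e (e.symm (h.1 • e x))) by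
        rw [e.apply_symm_apply, mul_smul] }
  have hsmul : ∀ (h : H) (x : T), (h • x : T).1 • a = h.1 • (x.1 • a) := fun h x => e.apply_symm_apply _
  have htrans : MulAction.IsPretransitive T Ω := ⟨fun x y => by
    obtain ⟨u, hu⟩ := hbij.2 x
    obtain ⟨v, hv⟩ := hbij.2 y
    refine ⟨v * u⁻¹, ?_⟩
    rw [← hu, ← hv]
    show (v.1 * u.1⁻¹) • u.1 • a = v.1 • a
    rw [← mul_smul, inv_mul_cancel_right]⟩
  have hfree := free_of_commute (Ω := Ω) (M := C) htrans (fun c hc u hu => (hcomm u hu c hc).symm)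
  have huniq : ∀ u ∈ T, ∀ c ∈ C, ∀ d ∈ C, (u * c) • a = a → (u * d) • a = a → c = d := by
    intro u hu c hc d hd h1 h2
    by_contra hne
    refine hfree (d⁻¹ * c) (C.mul_mem (C.inv_mem hd) hc) (fun e => hne (inv_mul_eq_one.1 e).symm) a ?_
    rw [mul_smul, inv_smul_eq_iff]
    exact smul_left_cancel u (by rw [← mul_smul, ← mul_smul, h1, h2])
  choose cu hcu hcua using fun u : T => hex u.1 u.2
  let κ : T →* H :=
    { toFun := fun u => ⟨u.1 * cu u, hcua u⟩
      map_one' := Subtype.ext (by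
        show (1 : T).1 * cu 1 = 1
        rw [huniq 1 T.one_mem _ (hcu 1) 1 C.one_mem (hcua 1) (by rw [mul_one, one_smul])]
        simp)
      map_mul' := fun u v => Subtype.ext (by
        show (u * v).1 * cu (u * v) = u.1 * cu u * (v.1 * cu v)
        have h1 : u.1 * cu u * (v.1 * cu v) = (u * v).1 * (cu u * cu v) := by
          rw [Subgroup.coe_mul, mul_assoc u.1 (cu u), ← mul_assoc (cu u), ← hcomm v.1 v.2 _ (hcu u)]
          group
        have h2 : cu (u * v) = cu u * cu v := huniq _ (u * v).2 _ (hcu _) _ (C.mul_mem (hcu u) (hcu v)) (hcua _)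
          (by rw [← h1, mul_smul, hcua v, hcua u])
        rw [h1, h2]) }
  have hTC : ∀ x ∈ T ⊔ C, ∃ u ∈ T, ∃ c ∈ C, u * c = x := by
    intro x hx
    have hle : T ≤ Subgroup.normalizer (C : Set G) := fun u hu => by
      rw [Subgroup.mem_normalizer_iff]
      refine fun c => ⟨fun hc => ?_, fun hc => ?_⟩
      · rw [hcomm u hu c hc, mul_inv_cancel_right]; exact hc
      · have := hcomm u⁻¹ (T.inv_mem hu) _ hc
        have e : c = u * c * u⁻¹ := by
          calc c = u⁻¹ * (u * c * u⁻¹) * u := by group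
            _ = u * c * u⁻¹ * u⁻¹ * u := by rw [this]
            _ = u * c * u⁻¹ := by group
        exact e.symm ▸ hc
    rw [← SetLike.mem_coe, Subgroup.coe_mul_of_left_le_normalizer_right _ _ hle] at hx
    exact hx
  have hκn : κ.range.Normal := ⟨by
    rintro _ ⟨u, rfl⟩ h
    obtain ⟨v, hv, c, hc, hvc⟩ := hTC _ (hnorm h.1 h.2 (u.1 * cu u)
      ((T ⊔ C).mul_mem (Subgroup.mem_sup_left u.2) (Subgroup.mem_sup_right (hcu u))))
    refine ⟨⟨v, hv⟩, Subtype.ext ?_⟩
    show v * cu ⟨v, hv⟩ = h.1 * (u.1 * cu u) * h.1⁻¹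
    rw [← hvc, huniq v hv _ (hcu _) c hc (hcua ⟨v, hv⟩) (by rw [hvc, mul_smul, mul_smul, hfix', hcua u, hfix])]⟩
  refine no_maximal_centralisers hns κ hκn (fun u x => hbij.1 ?_) (fun h x y hxy => hbij.1 ?_) fun x hx => ?_
  · show (κ u • x : T).1 • a = (u * x * u⁻¹ : T).1 • a
    rw [hsmul]
    show (u.1 * cu u) • x.1 • a = (u.1 * x.1 * u.1⁻¹) • a
    have h1 : u.1 * cu u * x.1 = u.1 * x.1 * u.1⁻¹ * (u.1 * cu u) := by
      rw [mul_assoc u.1 (cu u), ← hcomm x.1 x.2 _ (hcu u)]; group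
    rw [← mul_smul, h1, mul_smul, hcua u]
  · show (h • (x * y) : T).1 • a = ((h • x) * (h • y) : T).1 • a
    rw [hsmul]
    set x' := h • x
    set y' := h • y
    have hX : ∀ z : T, (h.1 * z.1 * h.1⁻¹) • a = (h • z : T).1 • a := fun z => by
      rw [hsmul, mul_smul, mul_smul, hfix']
    have hz : h.1 • ((x * y : T).1 • a) = (h.1 * x.1 * h.1⁻¹) • (y'.1 • a) := by
      rw [← hX y, Subgroup.coe_mul, ← mul_smul, ← mul_smul]
      conv_lhs => rw [← hfix' h]
      rw [← mul_smul]; congr 1; group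
    rw [hz]
    rcases hconj h.1 h.2 with hT | hC
    · have : (⟨_, hT x.1 x.2⟩ : T) = x' := hbij.1 (hX x)
      rw [← mul_smul, ← this]; rfl
    · -- the commuting case
      have hz2 : h.1 • ((x * y : T).1 • a) = (h.1 * y.1 * h.1⁻¹) • (x'.1 • a) := by
        rw [hxy.eq, ← hX x, Subgroup.coe_mul, ← mul_smul, ← mul_smul]
        conv_lhs => rw [← hfix' h]
        rw [← mul_smul]; congr 1; group
      rw [← hz, hz2, ← mul_smul, ← hcomm x'.1 x'.2 _ (hC y.1 y.2), mul_smul, hX, ← mul_smul]; rfl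
  · have hxa : x.1 • a ≠ a := fun e' => hx (hbij.1 (by
      show x.1 • a = ((1 : T) : G) • a
      rw [e', Subgroup.coe_one, one_smul]))
    have : MulAction.stabilizer H x = MulAction.stabilizer H (x.1 • a) := by
      ext h
      rw [MulAction.mem_stabilizer_iff, MulAction.mem_stabilizer_iff, Subgroup.smul_def, ← hsmul]
      exact ⟨fun e' => by rw [e'], fun e' => hbij.1 e'⟩
    rw [this]
    exact hmax _ hxa

theorem extremely_primitive [Nontrivial Ω] (hprim : MulAction.IsPreprimitive G Ω)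
    (hep : ∀ (α : Ω) (ω : Ω), MulAction.IsPreprimitive (MulAction.stabilizer G α)
      (MulAction.orbit (MulAction.stabilizer G α) ω)) :
    (∃ N : Subgroup G, N.Normal ∧ N ≠ ⊥ ∧ IsMulCommutative N ∧ ∀ ω : Ω, MulAction.stabilizer N ω = ⊥) ∨
      (∃ T : Subgroup G, T.Normal ∧ IsSimpleGroup T ∧ ¬ IsMulCommutative T ∧
        Subgroup.centralizer (T : Set G) = ⊥) := by
  classical
  haveI := hprim
  have hqp := isPreprimitive_normTrans hprim
  obtain ⟨a⟩ : Nonempty Ω := inferInstance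
  haveI hGnt : Nontrivial G := by
    obtain ⟨x, y, hxy⟩ := exists_pair_ne Ω
    obtain ⟨g, hg⟩ := MulAction.exists_smul_eq G x y
    refine ⟨g, 1, fun e => hxy ?_⟩
    rw [← hg, e, one_smul]
  set H := MulAction.stabilizer G a with hHdef
  have hHco : IsCoatom H := MulAction.IsPreprimitive.isCoatom_stabilizer_of_isPreprimitive G a
  obtain ⟨N, ⟨hNn, hN0⟩, hNmin'⟩ := Set.exists_min_image {M : Subgroup G | M.Normal ∧ M ≠ ⊥}
    (fun M => Nat.card M) (Set.toFinite _) ⟨⊤, inferInstance, top_ne_bot⟩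
  haveI := hNn
  have hNmin : ∀ M : Subgroup G, M.Normal → M ≤ N → M ≠ ⊥ → M = N := fun M hM hle hne =>
    Subgroup.eq_of_le_of_card_ge hle (hNmin' M ⟨hM, hne⟩)
  have hNt := hqp N hNn hN0
  by_cases hab : ∀ u ∈ N, ∀ v ∈ N, u * v = v * u
  · exact Or.inl ⟨N, hNn, hN0, ⟨⟨fun u v => Subtype.ext (hab u.1 u.2 v.1 v.2)⟩⟩,
      free_stabilizer (free_of_commute hNt hab)⟩
  have hH0 : H ≠ ⊥ := by
    intro h
    refine hab fun u _ v _ => ?_
    by_cases hu : u = 1
    · rw [hu, one_mul, mul_one]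
    have h1 : Subgroup.zpowers u = ⊤ := (h ▸ hHco).2 _ (bot_lt_iff_ne_bot.2 (by simpa using hu))
    obtain ⟨i, rfl⟩ := Subgroup.mem_zpowers_iff.1 (h1.symm.le (Subgroup.mem_top v))
    exact (Commute.self_zpow u i).eq
  have hidx : ∀ b : Ω, Nat.card (MulAction.stabilizer G b) = Nat.card H := fun b => by
    have h1 := (MulAction.stabilizer G b).card_mul_index
    have h2 := H.card_mul_index
    rw [MulAction.index_stabilizer_of_transitive] at h1 h2
    exact Nat.eq_of_mul_eq_mul_right Nat.card_pos (h1.trans h2.symm)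
  have hsame : ∀ b : Ω, MulAction.stabilizer G b = H → b = a := by
    intro b hb
    by_contra hne
    let B := MulAction.fixedPoints H Ω
    have hbB : b ∈ B := fun h => hb.symm.le h.2
    have hblock : MulAction.IsBlock G B := by
      have hiff : ∀ y : Ω, y ∈ B ↔ MulAction.stabilizer G y = H := fun y =>
        ⟨fun hy => (Subgroup.eq_of_le_of_card_ge (fun h hh => hy ⟨h, hh⟩) (hidx y).le).symm,
          fun hy h => hy.symm.le h.2⟩
      rw [MulAction.isBlock_iff_smul_eq_of_nonempty]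
      intro g hg
      obtain ⟨w, ⟨v, hv, hvw⟩, hw⟩ := hg
      replace hvw : g • v = w := hvw
      have hgH : ∀ h : G, h ∈ H ↔ g⁻¹ * h * g ∈ H := by
        intro h
        rw [← (hiff v).1 hv, MulAction.mem_stabilizer_iff (G := G) (g := g⁻¹ * h * g), mul_smul, mul_smul,
          inv_smul_eq_iff, hvw, (hiff v).1 hv, ← MulAction.mem_stabilizer_iff, (hiff w).1 hw]
      ext y
      rw [Set.mem_smul_set_iff_inv_smul_mem, hiff, hiff]
      constructor <;> intro hy <;> ext h
      · rw [hgH h, ← hy, MulAction.mem_stabilizer_iff, MulAction.mem_stabilizer_iff, mul_smul, mul_smul,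
          smul_inv_smul]
        exact smul_left_cancel_iff g⁻¹ |>.symm
      · have := hgH (g * h * g⁻¹)
        rw [show g⁻¹ * (g * h * g⁻¹) * g = h by group] at this
        rw [← this, ← hy, MulAction.mem_stabilizer_iff, MulAction.mem_stabilizer_iff, mul_smul, mul_smul,
          ← eq_inv_smul_iff (g := g) (a := h • g⁻¹ • y)]
    rcases hprim.isTrivialBlock_of_isBlock hblock with hsub | huniv
    · exact hne (hsub hbB (fun h => h.2))
    · refine hH0 (eq_bot_iff.2 fun h hh => Subgroup.mem_bot.2 (FaithfulSMul.eq_of_smul_eq_smul fun y : Ω => ?_))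
      rw [one_smul]
      exact (huniv.symm ▸ Set.mem_univ y : y ∈ B) ⟨h, hh⟩
  have hmax : ∀ b : Ω, b ≠ a → IsCoatom (MulAction.stabilizer H b) := by
    intro b hb
    haveI := hep a b
    haveI : Nontrivial (MulAction.orbit H b) := by
      by_contra h
      rw [not_nontrivial_iff_subsingleton] at h
      refine hb (hsame b ((Subgroup.eq_of_le_of_card_ge (fun g hg => ?_) (hidx b).le).symm))
      exact congrArg Subtype.val (Subsingleton.elim (⟨(⟨g, hg⟩ : H) • b, MulAction.mem_orbit _ _⟩ : MulAction.orbit H b)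
        ⟨b, MulAction.mem_orbit_self b⟩)
    have hst : MulAction.stabilizer H (⟨b, MulAction.mem_orbit_self b⟩ : MulAction.orbit H b) =
        MulAction.stabilizer H b := by
      ext h
      simp only [MulAction.mem_stabilizer_iff, Subtype.ext_iff, MulAction.orbit.coe_smul]
    rw [← hst]
    exact MulAction.IsPreprimitive.isCoatom_stabilizer_of_isPreprimitive H _
  have hNsol : ¬ Group.IsSolvable N := fun hsol => hab (comm_of_solvable_minimal (N := ⊤) hN0 hsol
    (fun n _ u hu => hNn.conj_mem u hu n) (fun K hK hKn => or_iff_not_imp_left.2 fun hne =>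
      hNmin K ⟨fun u hu g => hKn g trivial u hu⟩ hK hne))
  -- decomposition along the stabiliser
  have hdecomp : ∀ g : G, ∃ n ∈ N, ∃ h ∈ H, n * h = g := fun g => by
    obtain ⟨n, hn⟩ := hNt.exists_smul_eq a (g • a)
    refine ⟨n.1, n.2, n.1⁻¹ * g, ?_, by group⟩
    rw [MulAction.mem_stabilizer_iff, mul_smul, inv_smul_eq_iff]
    exact hn.symm
  have hnormal : ∀ T : Subgroup G, (∀ n ∈ N, ∀ u ∈ T, n * u * n⁻¹ ∈ T) →
      (∀ h ∈ H, ∀ u ∈ T, h * u * h⁻¹ ∈ T) → T.Normal := fun T h1 h2 => ⟨fun u hu g => by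
    obtain ⟨n, hn, h, hh, rfl⟩ := hdecomp g
    rw [show n * h * u * (n * h)⁻¹ = n * (h * u * h⁻¹) * n⁻¹ by group]
    exact h1 n hn _ (h2 h hh u hu)⟩
  -- a minimal normal subgroup of the socle
  obtain ⟨T, ⟨hTN, hTn, hT0⟩, hTmin'⟩ := Set.exists_min_image
    {K : Subgroup G | K ≤ N ∧ (∀ n ∈ N, ∀ u ∈ K, n * u * n⁻¹ ∈ K) ∧ K ≠ ⊥}
    (fun M => Nat.card M) (Set.toFinite _) ⟨N, le_rfl, fun n hn u hu => N.mul_mem (N.mul_mem hn hu) (N.inv_mem hn), hN0⟩
  have hTmin : ∀ K : Subgroup G, K ≤ T → (∀ n ∈ N, ∀ u ∈ K, n * u * n⁻¹ ∈ K) → K = ⊥ ∨ K = T := fun K hK hKn =>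
    or_iff_not_imp_left.2 fun hne => Subgroup.eq_of_le_of_card_ge hK (hTmin' K ⟨hK.trans hTN, hKn, hne⟩)
  have hZ : N ⊓ Subgroup.centralizer (N : Set G) = ⊥ := by
    haveI : (Subgroup.centralizer (N : Set G)).Normal := Subgroup.normal_centralizer
    by_contra h
    have := hNmin _ inferInstance inf_le_left h
    exact hab fun u hu v hv => Subgroup.mem_centralizer_iff.1 (this.symm.le hv).2 u hu
  -- conjugates of the factor
  have hpair : ∀ g : G, (∀ u ∈ T, g * u * g⁻¹ ∈ T) ∨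
      (∀ u ∈ T, ∀ w ∈ T, Commute w (g * u * g⁻¹)) := by
    intro g
    set Tg := T.map (MulAut.conj g).toMonoidHom
    have hTgN : Tg ≤ N := by
      rintro _ ⟨u, hu, rfl⟩; exact hNn.conj_mem u (hTN hu) g
    have hTgn : ∀ n ∈ N, ∀ v ∈ Tg, n * v * n⁻¹ ∈ Tg := by
      rintro n hn _ ⟨u, hu, rfl⟩
      have hn' : g⁻¹ * n * g ∈ N := by simpa using hNn.conj_mem n hn g⁻¹
      exact ⟨g⁻¹ * n * g * u * (g⁻¹ * n * g)⁻¹, hTn _ hn' u hu, by simp; group⟩
    rcases hTmin (T ⊓ Tg) inf_le_left (fun n hn u hu => ⟨hTn n hn u hu.1, hTgn n hn u hu.2⟩) with h | h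
    · right
      intro u hu w hw
      have hv : g * u * g⁻¹ ∈ Tg := ⟨u, hu, rfl⟩
      have h1 : w * (g * u * g⁻¹) * w⁻¹ * (g * u * g⁻¹)⁻¹ ∈ T ⊓ Tg := by
        refine ⟨?_, Tg.mul_mem (hTgn w (hTN hw) _ hv) (Tg.inv_mem hv)⟩
        rw [show w * (g * u * g⁻¹) * w⁻¹ * (g * u * g⁻¹)⁻¹ =
          w * ((g * u * g⁻¹) * w⁻¹ * (g * u * g⁻¹)⁻¹) by group]
        exact T.mul_mem hw (hTn _ (hTgN hv) _ (T.inv_mem hw))
      rw [h, Subgroup.mem_bot, mul_inv_eq_one, mul_inv_eq_iff_eq_mul] at h1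
      exact h1
    · left
      intro u hu
      have hT' : T = Tg := Subgroup.eq_of_le_of_card_ge (inf_eq_left.1 h)
        (le_of_eq (Subgroup.card_map_of_injective (MulAut.conj g).injective))
      exact hT'.symm.le ⟨u, hu, rfl⟩
  have hclos : N = Subgroup.normalClosure (T : Set G) :=
    (hNmin _ Subgroup.normalClosure_normal (Subgroup.normalClosure_le_normal hTN)
      fun h => hT0 (eq_bot_iff.2 (Subgroup.subset_normalClosure.trans h.le))).symm
  have hTnab : ¬ ∀ u ∈ T, ∀ v ∈ T, u * v = v * u := by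
    intro hTab
    refine hT0 (eq_bot_iff.2 ((le_inf hTN ?_).trans hZ.le))
    rw [Subgroup.le_centralizer_iff, hclos]
    refine (Subgroup.closure_le _).2 fun v hv => ?_
    obtain ⟨u, hu, huv⟩ := Group.mem_conjugatesOfSet_iff.1 hv
    obtain ⟨g, rfl⟩ := isConj_iff.1 huv
    refine Subgroup.mem_centralizer_iff.2 fun w hw => ?_
    rcases hpair g with h | h
    · exact hTab w hw _ (h u hu)
    · exact (h u hu w hw).eq
  have hTsol : ¬ Group.IsSolvable T := fun hsol => hTnab (comm_of_solvable_minimal hT0 hsol hTn hTmin)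
  have hTsimple : IsSimpleGroup T := by
    haveI : Nontrivial T := (Subgroup.nontrivial_iff_ne_bot T).2 hT0
    refine ⟨fun K hK => ?_⟩
    -- normal in the factor implies invariant under the socle
    rcases hTmin (K.map T.subtype) (Subgroup.map_subtype_le K) (by
      have hNK : ∀ n ∈ N, ∀ v ∈ K.map T.subtype, n * v * n⁻¹ ∈ K.map T.subtype := by
        intro n hn
        rw [hclos] at hn
        induction hn using Subgroup.closure_induction with
        | mem x hx =>
          rintro _ ⟨v, hv, rfl⟩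
          obtain ⟨u, hu, huv⟩ := Group.mem_conjugatesOfSet_iff.1 hx
          obtain ⟨g, rfl⟩ := isConj_iff.1 huv
          rcases hpair g with h | h
          · exact ⟨⟨_, h u hu⟩ * v * ⟨_, h u hu⟩⁻¹, hK.conj_mem v hv _, rfl⟩
          · refine ⟨v, hv, ?_⟩
            have := (h u hu v.1 v.2).eq
            show v.1 = g * u * g⁻¹ * v.1 * (g * u * g⁻¹)⁻¹
            rw [show g * u * g⁻¹ * v.1 = v.1 * (g * u * g⁻¹) by first | exact this | exact this.symm,
              mul_inv_cancel_right]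
        | one => intro v hv; simpa using hv
        | mul x y _ _ hx hy =>
          intro v hv
          rw [show x * y * v * (x * y)⁻¹ = x * (y * v * y⁻¹) * x⁻¹ by group]
          exact hx _ (hy v hv)
        | inv x _ hx =>
          intro v hv
          have hle : (K.map T.subtype).map (MulAut.conj x).toMonoidHom ≤ K.map T.subtype := by
            rintro _ ⟨w, hw, rfl⟩; exact hx w hw
          have heq := Subgroup.eq_of_le_of_card_ge hle
            (le_of_eq (Subgroup.card_map_of_injective (MulAut.conj x).injective).symm)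
          obtain ⟨w, hw, hwv⟩ := heq.symm.le hv
          rw [← hwv]
          simpa [mul_assoc] using hw
      exact hNK) with h | h
    · exact Or.inl ((Subgroup.map_eq_bot_iff_of_injective K T.subtype_injective).1 h)
    · refine Or.inr (eq_top_iff.2 fun u _ => ?_)
      obtain ⟨v, hv, hvu⟩ := h.symm.le u.2
      exact (Subtype.ext hvu : v = u) ▸ hv
  haveI := hTsimple
  by_cases hfixT : ∀ h ∈ H, ∀ u ∈ T, h * u * h⁻¹ ∈ T
  · -- the socle is simple
    haveI hTnn : T.Normal := hnormal T hTn hfixT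
    obtain rfl := hNmin T hTnn hTN hT0
    by_cases hC0 : Subgroup.centralizer (T : Set G) = ⊥
    · exact Or.inr ⟨T, hTnn, hTsimple, fun h => hab fun u hu v hv =>
        congrArg Subtype.val (h.is_comm.comm ⟨u, hu⟩ ⟨v, hv⟩), hC0⟩
    exfalso
    set C := Subgroup.centralizer (T : Set G)
    haveI : C.Normal := Subgroup.normal_centralizer
    have hCt := hqp C inferInstance hC0
    have hcomm : ∀ u ∈ T, ∀ c ∈ C, u * c = c * u := fun u hu c hc => Subgroup.mem_centralizer_iff.1 hc u hu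
    have hTfree := free_of_commute (Ω := Ω) hCt hcomm
    refine core_contradiction a T C hTsol hcomm ⟨fun u v e => ?_, fun b => ?_⟩ (fun u _ => ?_)
      (fun h hh => Or.inl (hfixT h hh)) (fun h _ x hx => (inferInstance : (T ⊔ C).Normal).conj_mem x hx h) hmax
    · by_contra hne
      refine hTfree (v.1⁻¹ * u.1) (T.mul_mem (T.inv_mem v.2) u.2)
        (fun e' => hne (Subtype.ext (inv_mul_eq_one.1 e').symm)) a ?_
      rw [mul_smul, inv_smul_eq_iff]
      exact e
    · exact hNt.exists_smul_eq a b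
    · obtain ⟨c, hc⟩ := hCt.exists_smul_eq a (u⁻¹ • a)
      exact ⟨c.1, c.2, by rw [mul_smul, ← Subgroup.smul_def, hc, smul_inv_smul]⟩
  exfalso
  push Not at hfixT
  obtain ⟨h₀, hh₀, u₀, hu₀, hh₀u⟩ := hfixT
  by_cases hM : N ⊓ H = ⊥
  · -- regular socle with several factors
    have hreg : ∀ x ∈ N, ∀ y ∈ N, x • a = y • a → x = y := fun x hx y hy e =>
      (inv_mul_eq_one.1 (Subgroup.mem_bot.1 (hM.le ⟨N.mul_mem (N.inv_mem hy) hx, by
        show y⁻¹ * x ∈ MulAction.stabilizer G a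
        rw [MulAction.mem_stabilizer_iff, mul_smul, e, inv_smul_smul]⟩))).symm
    have hHT : ∀ t ∈ T, t ≠ 1 → ∀ h ∈ H, (∀ u ∈ T, h * u * h⁻¹ ∈ T) → h * t * h⁻¹ = t := by
      intro t ht ht1 h hh hfix'
      have hb : t • a ≠ a := fun e => ht1 (hreg t (hTN ht) 1 N.one_mem (e.trans (one_smul G a).symm))
      let H0 : Subgroup H :=
        { carrier := {k | ∀ u ∈ T, k.1 * u * k.1⁻¹ ∈ T}
          one_mem' := fun u hu => by simpa using hu
          mul_mem' := fun {k l} hk hl u hu => by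
            rw [show (k * l).1 * u * (k * l).1⁻¹ = k.1 * (l.1 * u * l.1⁻¹) * k.1⁻¹ by
              simp only [Subgroup.coe_mul]; group]
            exact hk _ (hl u hu)
          inv_mem' := fun {k} hk u hu => by
            have hle : T.map (MulAut.conj k.1).toMonoidHom ≤ T := by
              rintro _ ⟨w, hw, rfl⟩; exact hk w hw
            have heq := Subgroup.eq_of_le_of_card_ge hle
              (le_of_eq (Subgroup.card_map_of_injective (MulAut.conj k.1).injective).symm)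
            obtain ⟨w, hw, hwu⟩ := heq.symm.le hu
            rw [← hwu]
            simpa [mul_assoc] using hw }
      have hle : MulAction.stabilizer H (t • a) ≤ H0 := by
        intro k hk
        rcases hpair k.1 with h1 | h1
        · exact h1
        · exfalso
          have hka : k.1⁻¹ • a = a := inv_smul_eq_iff.2 k.2.symm
          have e1 : k.1 * t * k.1⁻¹ = t := hreg _ (hNn.conj_mem t (hTN ht) k.1) t (hTN ht) (by
            rw [mul_smul, mul_smul, hka]; exact hk)
          -- then the element is central in its factor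
          haveI : Nontrivial T := (Subgroup.nontrivial_iff_ne_bot T).2 hT0
          have hcen : (⟨t, ht⟩ : T) ∈ Subgroup.center T := Subgroup.mem_center_iff.2 fun w => Subtype.ext (by
            show w.1 * t = t * w.1
            rw [← e1]; exact (h1 t ht w.1 w.2).eq)
          rcases (inferInstance : (Subgroup.center T).Normal).eq_bot_or_eq_top with e | e
          · rw [e, Subgroup.mem_bot] at hcen; exact ht1 (congrArg Subtype.val hcen)
          · exact hTsol (Group.isSolvable_of_comm fun x y =>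
              Subgroup.mem_center_iff.1 (e.symm.le (Subgroup.mem_top y)) x)
      have hne : H0 ≠ ⊤ := fun e => hh₀u ((e.symm.le (Subgroup.mem_top (⟨h₀, hh₀⟩ : H))) u₀ hu₀)
      have hmem : (⟨h, hh⟩ : H) ∈ MulAction.stabilizer H (t • a) :=
        (((hmax _ hb).le_iff.1 hle).resolve_left hne).le (show (⟨h, hh⟩ : H) ∈ H0 from hfix')
      refine hreg _ (hNn.conj_mem t (hTN ht) h) t (hTN ht) ?_
      rw [mul_smul, mul_smul, inv_smul_eq_iff.2 (MulAction.mem_stabilizer_iff.1 hh).symm]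
      exact hmem
    -- the product of the conjugates of an element
    obtain ⟨t, ht, ht1⟩ : ∃ t ∈ T, t ≠ 1 := by
      by_contra h; push Not at h; exact hT0 (eq_bot_iff.2 fun x hx => Subgroup.mem_bot.2 (h x hx))
    let S : Set G := {x | ∃ h ∈ H, h * t * h⁻¹ = x}
    have hS : ∀ x ∈ S, ∀ y ∈ S, x * y = y * x := by
      rintro _ ⟨h, hh, rfl⟩ _ ⟨k, hk, rfl⟩
      rcases hpair (h⁻¹ * k) with h1 | h1
      · have e : h⁻¹ * k * t * (h⁻¹ * k)⁻¹ = t := hHT t ht ht1 _ (H.mul_mem (H.inv_mem hh) hk) h1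
        have e2 : k * t * k⁻¹ = h * t * h⁻¹ := by
          calc k * t * k⁻¹ = h * (h⁻¹ * k * t * (h⁻¹ * k)⁻¹) * h⁻¹ := by group
            _ = _ := by rw [e]
        rw [e2]
      · calc h * t * h⁻¹ * (k * t * k⁻¹) = h * (t * (h⁻¹ * k * t * (h⁻¹ * k)⁻¹)) * h⁻¹ := by group
          _ = h * (h⁻¹ * k * t * (h⁻¹ * k)⁻¹ * t) * h⁻¹ := by rw [(h1 t ht t ht).eq]
          _ = k * t * k⁻¹ * (h * t * h⁻¹) := by group
    haveI := Subgroup.isMulCommutative_closure hS
    letI : CommGroup (Subgroup.closure S) :=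
      { (inferInstance : Group (Subgroup.closure S)) with mul_comm := fun x y => mul_comm' x y }
    haveI : Fintype S := Fintype.ofFinite S
    set d : Subgroup.closure S := ∏ x : S, (⟨x.1, Subgroup.subset_closure x.2⟩ : Subgroup.closure S) with hd
    have htS : t ∈ S := ⟨1, H.one_mem, by group⟩
    have hSN : Subgroup.closure S ≤ N := (Subgroup.closure_le _).2 (by
      rintro _ ⟨h, hh, rfl⟩; exact hNn.conj_mem t (hTN ht) h)
    have hdh : ∀ h ∈ H, h * d.1 * h⁻¹ = d.1 := by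
      intro h hh
      have hSh : ∀ x ∈ S, h * x * h⁻¹ ∈ S := by
        rintro _ ⟨k, hk, rfl⟩; exact ⟨h * k, H.mul_mem hh hk, by group⟩
      have hSh' : ∀ x ∈ S, h⁻¹ * x * h ∈ S := by
        rintro _ ⟨k, hk, rfl⟩; exact ⟨h⁻¹ * k, H.mul_mem (H.inv_mem hh) hk, by group⟩
      have hCh : ∀ y ∈ Subgroup.closure S, h * y * h⁻¹ ∈ Subgroup.closure S := by
        have : Subgroup.closure S ≤ (Subgroup.closure S).comap (MulAut.conj h).toMonoidHom :=
          (Subgroup.closure_le _).2 fun y hy => Subgroup.subset_closure (hSh y hy)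
        exact fun y hy => this hy
      let φ : Subgroup.closure S →* Subgroup.closure S :=
        { toFun := fun y => ⟨h * y.1 * h⁻¹, hCh y.1 y.2⟩
          map_one' := Subtype.ext (by simp)
          map_mul' := fun y z => Subtype.ext (by simp [mul_assoc]) }
      let σ : S ≃ S :=
        { toFun := fun y => ⟨h * y.1 * h⁻¹, hSh y.1 y.2⟩
          invFun := fun y => ⟨h⁻¹ * y.1 * h, hSh' y.1 y.2⟩
          left_inv := fun y => Subtype.ext (by group)
          right_inv := fun y => Subtype.ext (by group) }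
      have : φ d = d := by
        rw [hd, map_prod]
        exact Equiv.prod_comp σ (fun x : S => (⟨x.1, Subgroup.subset_closure x.2⟩ : Subgroup.closure S))
      exact congrArg Subtype.val this
    have hd1 : d.1 ≠ 1 := by
      intro e
      haveI : Nontrivial T := (Subgroup.nontrivial_iff_ne_bot T).2 hT0
      have hcen : (⟨t, ht⟩ : T) ∈ Subgroup.center T := Subgroup.mem_center_iff.2 fun w => Subtype.ext (by
        show w.1 * t = t * w.1
        have hsplit : d = ⟨t, Subgroup.subset_closure htS⟩ * ∏ x ∈ Finset.univ.erase (⟨t, htS⟩ : S),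
            (⟨x.1, Subgroup.subset_closure x.2⟩ : Subgroup.closure S) :=
          hd.trans (Finset.mul_prod_erase Finset.univ
            (fun x : S => (⟨x.1, Subgroup.subset_closure x.2⟩ : Subgroup.closure S))
            (Finset.mem_univ (⟨t, htS⟩ : S))).symm
        have hrest : ∀ s : Finset S, (∀ x ∈ s, x.1 ≠ t) → Commute w.1
            ((∏ x ∈ s, (⟨x.1, Subgroup.subset_closure x.2⟩ : Subgroup.closure S) : Subgroup.closure S) : G) := by
          intro s
          induction s using Finset.induction with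
          | empty => intro _; rw [Finset.prod_empty, Subgroup.coe_one]; exact Commute.one_right _
          | @insert x s hxs ih =>
            intro hne
            rw [Finset.prod_insert hxs, Subgroup.coe_mul]
            refine Commute.mul_right ?_ (ih fun y hy => hne y (Finset.mem_insert_of_mem hy))
            obtain ⟨k, hk, hkx⟩ := x.2
            rcases hpair k with h1 | h1
            · exact absurd (hkx.symm.trans (hHT t ht ht1 k hk h1)) (hne x (Finset.mem_insert_self x s))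
            · show Commute w.1 x.1
              rw [← hkx]; exact h1 t ht w.1 w.2
        have hR := hrest (Finset.univ.erase (⟨t, htS⟩ : S)) fun x hx e' =>
          (Finset.mem_erase.1 hx).1 (Subtype.ext e')
        have h2 := congrArg Subtype.val hsplit
        rw [Subgroup.coe_mul, e] at h2
        have ht2 : ((∏ x ∈ Finset.univ.erase (⟨t, htS⟩ : S),
            (⟨x.1, Subgroup.subset_closure x.2⟩ : Subgroup.closure S) : Subgroup.closure S) : G) = t⁻¹ :=
          (inv_eq_of_mul_eq_one_right h2.symm).symm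
        rw [ht2] at hR
        exact (Commute.inv_right_iff.1 hR).eq)
      rcases (inferInstance : (Subgroup.center T).Normal).eq_bot_or_eq_top with e' | e'
      · rw [e', Subgroup.mem_bot] at hcen; exact ht1 (congrArg Subtype.val hcen)
      · exact hTsol (Group.isSolvable_of_comm fun x y =>
          Subgroup.mem_center_iff.1 (e'.symm.le (Subgroup.mem_top y)) x)
    refine hd1 (hreg _ (hSN d.2) 1 N.one_mem ?_)
    rw [one_smul]
    refine hsame _ ((Subgroup.eq_of_le_of_card_ge (fun h hh => ?_) (hidx _).le).symm)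
    rw [MulAction.mem_stabilizer_iff, ← mul_smul,
      show h * d.1 = h * d.1 * h⁻¹ * h by group, hdh h hh, mul_smul, hh]
  -- a non-trivial socle stabiliser
  set M := N ⊓ H with hMdef
  have hMnH : ∀ h ∈ H, ∀ m ∈ M, h * m * h⁻¹ ∈ M := fun h hh m hm =>
    ⟨hNn.conj_mem m hm.1 h, H.mul_mem (H.mul_mem hh hm.2) (H.inv_mem hh)⟩
  have hMmove : ∀ b : Ω, b ≠ a → ∃ m ∈ M, m • b ≠ b := by
    intro b hb
    by_contra h
    push Not at h
    obtain ⟨n, hn⟩ := hNt.exists_smul_eq a b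
    have hMb : M.map (MulAut.conj n.1).toMonoidHom = M := by
      refine (Subgroup.eq_of_le_of_card_ge (fun m hm => ?_) (le_of_eq
        (Subgroup.card_map_of_injective (MulAut.conj n.1).injective))).symm
      refine ⟨n.1⁻¹ * m * n.1, ⟨N.mul_mem (N.mul_mem (N.inv_mem n.2) hm.1) n.2, ?_⟩, by simp [mul_assoc]⟩
      show n.1⁻¹ * m * n.1 ∈ MulAction.stabilizer G a
      rw [MulAction.mem_stabilizer_iff, mul_smul, mul_smul, ← Subgroup.smul_def n a, hn, h m hm, inv_smul_eq_iff]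
      exact hn.symm
    have hnH : n.1 ∉ H := fun h' => hb (by rw [← hn, Subgroup.smul_def]; exact h')
    have htop : Subgroup.normalizer (M : Set G) = ⊤ := by
      refine hHco.2 _ (SetLike.lt_iff_le_and_exists.2 ⟨fun g hg => ?_, n.1, ?_, hnH⟩)
      · rw [Subgroup.mem_normalizer_iff]
        refine fun m => ⟨fun hm => hMnH g hg m hm, fun hm => ?_⟩
        have := hMnH g⁻¹ (H.inv_mem hg) _ hm
        simpa [mul_assoc] using this
      · rw [Subgroup.mem_normalizer_iff]
        intro m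
        conv_rhs => rw [← hMb]
        exact (Subgroup.mem_map_iff_mem (MulAut.conj n.1).injective).symm
    haveI : M.Normal := Subgroup.normalizer_eq_top_iff.1 htop
    have hMN := hNmin M inferInstance inf_le_left hM
    refine hN0 (eq_bot_iff.2 fun x hx => Subgroup.mem_bot.2 (FaithfulSMul.eq_of_smul_eq_smul fun y : Ω => ?_))
    obtain ⟨m, hm⟩ := hNt.exists_smul_eq a y
    have h1 : m.1⁻¹ * x * m.1 ∈ M := hMN.symm.le (N.mul_mem (N.mul_mem (N.inv_mem m.2) hx) m.2)
    have h2 := MulAction.mem_stabilizer_iff.1 h1.2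
    rw [mul_smul, mul_smul, inv_smul_eq_iff, ← Subgroup.smul_def, hm] at h2
    rw [one_smul, h2]
  have hMT : ∀ m ∈ M, ∀ u ∈ T, m * u * m⁻¹ ∈ T := fun m hm => hTn m hm.1
  -- some stabiliser of two points moves the factor
  have hmove : ∀ b : Ω, b ≠ a → ∃ h ∈ H, h • b = b ∧ ∀ u ∈ T, ∀ w ∈ T, Commute w (h * u * h⁻¹) := by
    intro b hb
    by_contra hcon
    push Not at hcon
    let H0 : Subgroup H :=
      { carrier := {k | T.map (MulAut.conj k.1).toMonoidHom = T}
        one_mem' := by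
          show T.map (MulAut.conj (1 : H).1).toMonoidHom = T
          ext u; simp
        mul_mem' := fun {k l} (hk : _ = T) (hl : _ = T) => by
          show T.map (MulAut.conj (k * l).1).toMonoidHom = T
          rw [show (MulAut.conj (k * l).1).toMonoidHom = (MulAut.conj k.1).toMonoidHom.comp
            (MulAut.conj l.1).toMonoidHom from MonoidHom.ext fun u => by simp [mul_assoc], ← Subgroup.map_map, hl, hk]
        inv_mem' := fun {k} (hk : _ = T) => by
          show T.map (MulAut.conj k⁻¹.1).toMonoidHom = T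
          conv_lhs => rw [← hk, Subgroup.map_map]
          ext u; simp [mul_assoc] }
    have hmk : ∀ k : H, (∀ u ∈ T, k.1 * u * k.1⁻¹ ∈ T) → k ∈ H0 := fun k hk =>
      Subgroup.eq_of_le_of_card_ge (by rintro _ ⟨u, hu, rfl⟩; exact hk u hu)
        (le_of_eq (Subgroup.card_map_of_injective (MulAut.conj k.1).injective).symm)
    have hle : MulAction.stabilizer H b ≤ H0 := by
      intro k hk
      rcases hpair k.1 with h1 | h1
      · exact hmk k h1
      · obtain ⟨u, hu, w, hw, hne⟩ := hcon k.1 k.2 hk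
        exact absurd (h1 u hu w hw) hne
    obtain ⟨m, hm, hmb⟩ := hMmove b hb
    have hlt : MulAction.stabilizer H b < H0 :=
      SetLike.lt_iff_le_and_exists.2 ⟨hle, ⟨m, hm.2⟩, hmk _ (hMT m hm), hmb⟩
    have htop := (hmax b hb).2 _ hlt
    have := (htop.symm.le (Subgroup.mem_top (⟨h₀, hh₀⟩ : H)) : T.map (MulAut.conj h₀).toMonoidHom = T)
    exact hh₀u (this.le ⟨u₀, hu₀, rfl⟩)
  set C := N ⊓ Subgroup.centralizer (T : Set G) with hCdef
  have hcomm : ∀ u ∈ T, ∀ c ∈ C, u * c = c * u := fun u hu c hc => Subgroup.mem_centralizer_iff.1 hc.2 u hu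
  have hfactor : ∀ t ∈ T, t • a ≠ a → ∃ g : G, (∀ u ∈ T, ∀ w ∈ T, Commute w (g * u * g⁻¹)) ∧
      t⁻¹ * (g * t * g⁻¹) ∈ M := by
    intro t ht hta
    obtain ⟨h, hh, hhb, hc⟩ := hmove (t • a) hta
    refine ⟨h, hc, N.mul_mem (N.inv_mem (hTN ht)) (hNn.conj_mem t (hTN ht) h), ?_⟩
    show t⁻¹ * (h * t * h⁻¹) ∈ MulAction.stabilizer G a
    rw [MulAction.mem_stabilizer_iff, mul_smul, mul_smul, mul_smul,
      inv_smul_eq_iff.2 (MulAction.mem_stabilizer_iff.1 hh).symm, hhb, inv_smul_smul]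
  have hTC : T ⊓ C = ⊥ := by
    rw [eq_bot_iff]
    intro u hu
    haveI : Nontrivial T := (Subgroup.nontrivial_iff_ne_bot T).2 hT0
    rcases (inferInstance : (Subgroup.center T).Normal).eq_bot_or_eq_top with e | e
    · have hcen : (⟨u, hu.1⟩ : T) ∈ Subgroup.center T := Subgroup.mem_center_iff.2 fun w =>
        Subtype.ext (hcomm w.1 w.2 u hu.2)
      rw [e, Subgroup.mem_bot] at hcen
      exact Subgroup.mem_bot.2 (congrArg Subtype.val hcen)
    · exact absurd (Group.isSolvable_of_comm fun x y =>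
        Subgroup.mem_center_iff.1 (e.symm.le (Subgroup.mem_top y)) x) hTsol
  have hgC : ∀ g : G, (∀ u ∈ T, ∀ w ∈ T, Commute w (g * u * g⁻¹)) → ∀ u ∈ T, g * u * g⁻¹ ∈ C := fun g hg u hu =>
    ⟨hNn.conj_mem u (hTN hu) g, Subgroup.mem_centralizer_iff.2 fun w hw => (hg u hu w hw).eq⟩
  have hNTC : ∀ n ∈ N, ∃ u ∈ T, ∃ d ∈ C, u * d = n := by
    have hle : T ≤ Subgroup.normalizer (C : Set G) := fun u hu => by
      rw [Subgroup.mem_normalizer_iff]
      refine fun c => ⟨fun hc => ?_, fun hc => ?_⟩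
      · rw [hcomm u hu c hc, mul_inv_cancel_right]; exact hc
      · have := hcomm u⁻¹ (T.inv_mem hu) _ hc
        have e : c = u * c * u⁻¹ := by
          calc c = u⁻¹ * (u * c * u⁻¹) * u := by group
            _ = u * c * u⁻¹ * u⁻¹ * u := by rw [this]
            _ = u * c * u⁻¹ := by group
        exact e.symm ▸ hc
    intro n hn
    have hmem : n ∈ T ⊔ C := by
      have : N ≤ T ⊔ C := by
        rw [hclos]
        refine (Subgroup.closure_le _).2 fun v hv => ?_
        obtain ⟨u, hu, huv⟩ := Group.mem_conjugatesOfSet_iff.1 hv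
        obtain ⟨g, rfl⟩ := isConj_iff.1 huv
        rcases hpair g with h | h
        · exact Subgroup.mem_sup_left (h u hu)
        · exact Subgroup.mem_sup_right (hgC g h u hu)
      exact this hn
    rw [← SetLike.mem_coe, Subgroup.coe_mul_of_left_le_normalizer_right _ _ hle] at hmem
    exact hmem
  have hproj : ∀ u ∈ T, ∃ c ∈ C, u * c ∈ M := by
    intro u hu
    by_cases hua : u • a = a
    · exact ⟨1, C.one_mem, by rw [mul_one]; exact ⟨hTN hu, hua⟩⟩
    · obtain ⟨g, hg, hgm⟩ := hfactor u⁻¹ (T.inv_mem hu) (fun e => hua (inv_smul_eq_iff.1 e).symm)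
      rw [inv_inv] at hgm
      exact ⟨_, hgC g hg _ (T.inv_mem hu), hgm⟩
  have hTH : ∀ u ∈ T, u • a = a → u = 1 := by
    have hA : ∀ n ∈ N, ∀ u ∈ T ⊓ M, n * u * n⁻¹ ∈ T ⊓ M := by
      intro n hn u hu
      obtain ⟨v, hv, d, hd, rfl⟩ := hNTC n hn
      obtain ⟨c, hc, hvc⟩ := hproj v hv
      have hud : d * u = u * d := (hcomm u hu.1 d hd).symm
      have huc : c * u = u * c := (hcomm u hu.1 c hc).symm
      have e : v * d * u * (v * d)⁻¹ = v * c * u * (v * c)⁻¹ := by
        rw [mul_assoc v d u, hud, mul_assoc v c u, huc]; group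
      exact ⟨hTn _ hn u hu.1, e ▸ M.mul_mem (M.mul_mem hvc hu.2) (M.inv_mem hvc)⟩
    rcases hTmin (T ⊓ M) inf_le_left hA with h | h
    · exact fun u hu hua => Subgroup.mem_bot.1 (h.le ⟨hu, hTN hu, hua⟩)
    · exfalso
      refine hT0 (eq_bot_iff.2 fun u hu => Subgroup.mem_bot.2 (FaithfulSMul.eq_of_smul_eq_smul fun y : Ω => ?_))
      obtain ⟨n, rfl⟩ := hNt.exists_smul_eq a y
      have h1 : n.1⁻¹ * u * n.1 ∈ M :=
        ((inf_eq_left.1 h) (by simpa using hTn n.1⁻¹ (N.inv_mem n.2) u hu))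
      have h2 := MulAction.mem_stabilizer_iff.1 h1.2
      rw [mul_smul, mul_smul, inv_smul_eq_iff] at h2
      rw [one_smul, Subgroup.smul_def, h2]
  -- linked conjugates
  have hlink : ∀ g : G, (∀ u ∈ T, ∀ w ∈ T, Commute w (g * u * g⁻¹)) → ∀ t ∈ T, t ≠ 1 →
      ∀ s ∈ T, t * (g * s * g⁻¹) ∈ M → ∀ v ∈ T, ∃ s ∈ T, v * (g * s * g⁻¹) ∈ M := by
    intro g hg t ht ht1 s hs hts
    let L : Subgroup G :=
      { carrier := {v | v ∈ T ∧ ∃ s ∈ T, v * (g * s * g⁻¹) ∈ M}
        one_mem' := ⟨T.one_mem, 1, T.one_mem, by rw [mul_one, mul_inv_cancel, one_mul]; exact M.one_mem⟩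
        mul_mem' := by
          rintro v w ⟨hv, s1, hs1, h1⟩ ⟨hw, s2, hs2, h2⟩
          refine ⟨T.mul_mem hv hw, s1 * s2, T.mul_mem hs1 hs2, ?_⟩
          have e : v * w * (g * (s1 * s2) * g⁻¹) = v * (g * s1 * g⁻¹) * (w * (g * s2 * g⁻¹)) := by
            calc v * w * (g * (s1 * s2) * g⁻¹) = v * (w * (g * s1 * g⁻¹)) * (g * s2 * g⁻¹) := by group
              _ = v * (g * s1 * g⁻¹ * w) * (g * s2 * g⁻¹) := by rw [(hg s1 hs1 w hw).eq]
              _ = _ := by group
          exact e ▸ M.mul_mem h1 h2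
        inv_mem' := by
          rintro v ⟨hv, s1, hs1, h1⟩
          refine ⟨T.inv_mem hv, s1⁻¹, T.inv_mem hs1, ?_⟩
          have e : v⁻¹ * (g * s1⁻¹ * g⁻¹) = (v * (g * s1 * g⁻¹))⁻¹ := by
            rw [(hg s1 hs1 v hv).eq]; group
          exact e ▸ M.inv_mem h1 }
    have hLn : ∀ n ∈ N, ∀ v ∈ L, n * v * n⁻¹ ∈ L := by
      rintro n hn v ⟨hv, s1, hs1, h1⟩
      obtain ⟨w, hw, d, hd, rfl⟩ := hNTC n hn
      obtain ⟨c, hc, hwc⟩ := hproj w hw
      have hvd : d * v = v * d := (hcomm v hv d hd).symm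
      have hvc : c * v = v * c := (hcomm v hv c hc).symm
      refine ⟨hTn _ hn v hv, g⁻¹ * (w * c) * g * s1 * (g⁻¹ * (w * c) * g)⁻¹,
        hTn _ (by simpa using hNn.conj_mem _ hwc.1 g⁻¹) s1 hs1, ?_⟩
      have e : w * d * v * (w * d)⁻¹ * (g * (g⁻¹ * (w * c) * g * s1 * (g⁻¹ * (w * c) * g)⁻¹) * g⁻¹) =
          w * c * (v * (g * s1 * g⁻¹)) * (w * c)⁻¹ := by
        calc _ = w * (d * v) * d⁻¹ * w⁻¹ * (w * c * (g * s1 * g⁻¹) * (w * c)⁻¹) := by group
          _ = w * v * (c * (g * s1 * g⁻¹) * c⁻¹) * w⁻¹ := by rw [hvd]; group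
          _ = w * (v * c) * (g * s1 * g⁻¹) * c⁻¹ * w⁻¹ := by group
          _ = _ := by rw [← hvc]; group
      exact e ▸ M.mul_mem (M.mul_mem hwc h1) (M.inv_mem hwc)
    have hLT : L = T := (hTmin L (fun v hv => hv.1) hLn).resolve_left fun h => by
      have : t ∈ L := ⟨ht, s, hs, hts⟩
      rw [h, Subgroup.mem_bot] at this
      exact ht1 this
    intro v hv
    exact (hLT.symm.le hv).2
  obtain ⟨t, ht, ht1⟩ : ∃ t ∈ T, t ≠ 1 := by
    by_contra h; push Not at h; exact hT0 (eq_bot_iff.2 fun x hx => Subgroup.mem_bot.2 (h x hx))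
  obtain ⟨g, hg, hgm⟩ := hfactor t⁻¹ (T.inv_mem ht)
    (fun e => ht1 (inv_eq_one.1 (hTH _ (T.inv_mem ht) e)))
  rw [inv_inv] at hgm
  have hL := hlink g hg t ht ht1 _ (T.inv_mem ht) hgm
  -- only one conjugate is linked to the factor
  have huniq : ∀ k : G, (∀ u ∈ T, ∀ w ∈ T, Commute w (k * u * k⁻¹)) → (∀ v ∈ T, ∃ s ∈ T, v * (k * s * k⁻¹) ∈ M) →
      ∀ u ∈ T, (g⁻¹ * k) * u * (g⁻¹ * k)⁻¹ ∈ T := by
    intro k hk hkL
    rcases hpair (g⁻¹ * k) with h1 | h1
    · exact h1
    exfalso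
    refine hTnab fun u hu v hv => ?_
    obtain ⟨s1, hs1, hm1⟩ := hL u hu
    obtain ⟨s2, hs2, hm2⟩ := hkL v hv
    set c := g * s1 * g⁻¹
    set e := k * s2 * k⁻¹
    have hce : c * e = e * c := by
      calc c * e = g * (s1 * ((g⁻¹ * k) * s2 * (g⁻¹ * k)⁻¹)) * g⁻¹ := by simp only [c, e]; group
        _ = g * ((g⁻¹ * k) * s2 * (g⁻¹ * k)⁻¹ * s1) * g⁻¹ := by rw [(h1 s2 hs2 s1 hs1).eq]
        _ = e * c := by simp only [c, e]; group
    have hcv : v * c = c * v := (hg s1 hs1 v hv).eq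
    have hcu : u * c = c * u := (hg s1 hs1 u hu).eq
    have heu : u * e = e * u := (hk s2 hs2 u hu).eq
    have hev : v * e = e * v := (hk s2 hs2 v hv).eq
    have h2 : u * c * (v * e) * (u * c)⁻¹ * (v * e)⁻¹ = u * v * u⁻¹ * v⁻¹ := by
      calc u * c * (v * e) * (u * c)⁻¹ * (v * e)⁻¹ = u * (c * v) * e * c⁻¹ * u⁻¹ * e⁻¹ * v⁻¹ := by group
        _ = u * v * (c * e) * c⁻¹ * u⁻¹ * e⁻¹ * v⁻¹ := by rw [← hcv]; group
        _ = u * v * (e * u⁻¹) * e⁻¹ * v⁻¹ := by rw [hce]; group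
        _ = u * v * u⁻¹ * (u * e) * u⁻¹ * e⁻¹ * v⁻¹ := by group
        _ = u * v * u⁻¹ * v⁻¹ := by rw [heu]; group
    have h3 : u * v * u⁻¹ * v⁻¹ = 1 := hTH _
      (T.mul_mem (T.mul_mem (T.mul_mem hu hv) (T.inv_mem hu)) (T.inv_mem hv))
      (h2 ▸ (M.mul_mem (M.mul_mem (M.mul_mem hm1 hm2) (M.inv_mem hm1)) (M.inv_mem hm2)).2)
    rwa [mul_inv_eq_one, mul_inv_eq_iff_eq_mul] at h3
  set T' := T.map (MulAut.conj g).toMonoidHom with hT'
  have hT'C : T' ≤ C := by rintro _ ⟨u, hu, rfl⟩; exact hgC g hg u hu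
  have hT'n : ∀ n ∈ N, ∀ v ∈ T', n * v * n⁻¹ ∈ T' := by
    rintro n hn _ ⟨u, hu, rfl⟩
    exact ⟨g⁻¹ * n * g * u * (g⁻¹ * n * g)⁻¹, hTn _ (by simpa using hNn.conj_mem n hn g⁻¹) u hu, by simp; group⟩
  -- the pair is invariant
  have hHfix : ∀ h ∈ H, (∀ u ∈ T, h * u * h⁻¹ ∈ T) → ∀ v ∈ T', h * v * h⁻¹ ∈ T' := by
    intro h hh hhT
    have hhinv : ∀ u ∈ T, h⁻¹ * u * h ∈ T := by
      intro u hu
      have hle : T.map (MulAut.conj h).toMonoidHom ≤ T := by rintro _ ⟨w, hw, rfl⟩; exact hhT w hw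
      have heq := Subgroup.eq_of_le_of_card_ge hle
        (le_of_eq (Subgroup.card_map_of_injective (MulAut.conj h).injective).symm)
      obtain ⟨w, hw, hwu⟩ := heq.symm.le hu
      rw [← hwu]
      simpa [mul_assoc] using hw
    have hk : ∀ u ∈ T, ∀ w ∈ T, Commute w (h * g * u * (h * g)⁻¹) := fun u hu w hw => by
      have := hg u hu (h⁻¹ * w * h) (hhinv w hw)
      have e := congrArg (fun x => h * x * h⁻¹) this.eq
      show w * _ = _ * w
      calc w * (h * g * u * (h * g)⁻¹) = h * (h⁻¹ * w * h * (g * u * g⁻¹)) * h⁻¹ := by group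
        _ = h * (g * u * g⁻¹ * (h⁻¹ * w * h)) * h⁻¹ := by rw [this.eq]
        _ = h * g * u * (h * g)⁻¹ * w := by group
    have hkL : ∀ v ∈ T, ∃ s ∈ T, v * (h * g * s * (h * g)⁻¹) ∈ M := fun v hv => by
      obtain ⟨s, hs, hm⟩ := hL (h⁻¹ * v * h) (hhinv v hv)
      refine ⟨s, hs, ?_⟩
      have e : v * (h * g * s * (h * g)⁻¹) = h * (h⁻¹ * v * h * (g * s * g⁻¹)) * h⁻¹ := by group
      exact e ▸ hMnH h hh _ hm
    rintro _ ⟨u, hu, rfl⟩
    exact ⟨g⁻¹ * (h * g) * u * (g⁻¹ * (h * g))⁻¹, huniq _ hk hkL u hu, by simp; group⟩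
  -- elements of the two-point stabilisers interchange the pair
  obtain ⟨h₁, hh₁, hh₁b, hh₁c⟩ := hmove (t • a) (fun e => ht1 (hTH t ht e))
  have hswap1 : ∀ u ∈ T, h₁ * u * h₁⁻¹ ∈ T' := by
    have hL1 : ∀ v ∈ T, ∃ s ∈ T, v * (h₁ * s * h₁⁻¹) ∈ M := by
      refine hlink h₁ hh₁c t⁻¹ (T.inv_mem ht) (inv_ne_one.2 ht1) t ht ⟨N.mul_mem (N.inv_mem (hTN ht))
        (hNn.conj_mem t (hTN ht) h₁), ?_⟩
      show t⁻¹ * (h₁ * t * h₁⁻¹) ∈ MulAction.stabilizer G a
      rw [MulAction.mem_stabilizer_iff, mul_smul, mul_smul, mul_smul,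
        inv_smul_eq_iff.2 (MulAction.mem_stabilizer_iff.1 hh₁).symm, hh₁b, inv_smul_smul]
    intro u hu
    exact ⟨g⁻¹ * h₁ * u * (g⁻¹ * h₁)⁻¹, huniq h₁ hh₁c hL1 u hu, by simp; group⟩
  have hswap2 : ∀ v ∈ T', h₁ * v * h₁⁻¹ ∈ T := by
    -- the image of the partner is linked to the partner
    set e := h₁ * g
    have hT'eq : ∀ u ∈ T, ∃ w ∈ T, h₁ * w * h₁⁻¹ = g * u * g⁻¹ := fun u hu => by
      have hle : T.map (MulAut.conj h₁).toMonoidHom ≤ T' := by rintro _ ⟨w, hw, rfl⟩; exact hswap1 w hw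
      have heq := Subgroup.eq_of_le_of_card_ge hle (by
        rw [hT', Subgroup.card_map_of_injective (MulAut.conj g).injective,
          Subgroup.card_map_of_injective (MulAut.conj h₁).injective])
      obtain ⟨w, hw, hwu⟩ := heq.symm.le ⟨u, hu, rfl⟩
      exact ⟨w, hw, hwu⟩
    rcases hpair e with h1 | h1
    · rintro _ ⟨u, hu, rfl⟩
      have := h1 u hu
      simpa [e, mul_assoc] using this
    · exfalso
      refine hTnab fun u hu v hv => ?_
      -- two independent links of the partner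
      obtain ⟨s1, hs1, hm1⟩ := hL u hu
      obtain ⟨s3, hs3, hm3⟩ := hL v hv
      obtain ⟨w, hw, hw'⟩ := hT'eq s3 hs3
      obtain ⟨s2, hs2, hm2⟩ := hL w hw
      have hm2' : h₁ * (w * (g * s2 * g⁻¹)) * h₁⁻¹ ∈ M := hMnH h₁ hh₁ _ hm2
      have he2 : h₁ * (w * (g * s2 * g⁻¹)) * h₁⁻¹ = g * s3 * g⁻¹ * (e * s2 * e⁻¹) := by
        rw [← hw']; simp only [e]; group
      rw [he2] at hm2'
      -- so the factor element has a second partner
      have hm4 : v * (e * s2⁻¹ * e⁻¹) ∈ M := by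
        have h' : g * s3 * g⁻¹ * (e * s2 * e⁻¹) = e * s2 * e⁻¹ * (g * s3 * g⁻¹) := by
          rw [← he2]
          have := (hg s2 hs2 w hw).eq
          calc h₁ * (w * (g * s2 * g⁻¹)) * h₁⁻¹ = h₁ * (g * s2 * g⁻¹ * w) * h₁⁻¹ := by rw [this]
            _ = _ := by rw [← hw']; simp only [e]; group
        have : v * (e * s2⁻¹ * e⁻¹) = v * (g * s3 * g⁻¹) * (g * s3 * g⁻¹ * (e * s2 * e⁻¹))⁻¹ := by
          rw [h']; group
        exact this ▸ M.mul_mem hm3 (M.inv_mem hm2')
      have hkL : ∀ x ∈ T, ∃ s ∈ T, x * (e * s * e⁻¹) ∈ M := by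
        intro x hx
        by_cases hv1 : v = 1
        · -- use another element
          obtain ⟨s3', hs3', hm3'⟩ := hL x hx
          obtain ⟨w', hw'', hw'e⟩ := hT'eq s3' hs3'
          obtain ⟨s2', hs2', hm2''⟩ := hL w' hw''
          refine ⟨s2'⁻¹, T.inv_mem hs2', ?_⟩
          have hm := hMnH h₁ hh₁ _ hm2''
          have hc' : h₁ * (w' * (g * s2' * g⁻¹)) * h₁⁻¹ = e * s2' * e⁻¹ * (g * s3' * g⁻¹) := by
            rw [(hg s2' hs2' w' hw'').eq, ← hw'e]; simp only [e]; group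
          have : x * (e * s2'⁻¹ * e⁻¹) = x * (g * s3' * g⁻¹) * (h₁ * (w' * (g * s2' * g⁻¹)) * h₁⁻¹)⁻¹ := by
            rw [hc']; group
          exact this ▸ M.mul_mem hm3' (M.inv_mem hm)
        · exact hlink e h1 v hv hv1 _ (T.inv_mem hs2) hm4 x hx
      have h5 := huniq e h1 hkL
      -- the second partner is the first one, so the factor coincides with its partner
      exfalso
      refine hTnab fun x hx y hy => ?_
      obtain ⟨z, hz, hzy⟩ : ∃ z ∈ T, g⁻¹ * e * z * (g⁻¹ * e)⁻¹ = y := by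
        have hle : T.map (MulAut.conj (g⁻¹ * e)).toMonoidHom ≤ T := by rintro _ ⟨z, hz, rfl⟩; exact h5 z hz
        have heq := Subgroup.eq_of_le_of_card_ge hle
          (le_of_eq (Subgroup.card_map_of_injective (MulAut.conj (g⁻¹ * e)).injective).symm)
        obtain ⟨z, hz, hzy⟩ := heq.symm.le hy
        exact ⟨z, hz, hzy⟩
      obtain ⟨w1, hw1, hw1e⟩ := hT'eq x hx
      have hzc : w1 * (g * z * g⁻¹) = g * z * g⁻¹ * w1 := (hg z hz w1 hw1).eq
      have h6 : g * x * g⁻¹ * (g * y * g⁻¹) = g * y * g⁻¹ * (g * x * g⁻¹) := by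
        rw [← hw1e, ← hzy]
        calc h₁ * w1 * h₁⁻¹ * (g * (g⁻¹ * e * z * (g⁻¹ * e)⁻¹) * g⁻¹)
            = h₁ * (w1 * (g * z * g⁻¹)) * h₁⁻¹ := by simp only [e]; group
          _ = h₁ * (g * z * g⁻¹ * w1) * h₁⁻¹ := by rw [hzc]
          _ = _ := by simp only [e]; group
      calc x * y = g⁻¹ * (g * x * g⁻¹ * (g * y * g⁻¹)) * g := by group
        _ = y * x := by rw [h6]; group
  have hpairs : ∀ h ∈ H, (∀ u ∈ T, h * u * h⁻¹ ∈ T) ∨ (∀ u ∈ T, h * u * h⁻¹ ∈ T') := by
    -- stabilisers of the pair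
    let P : Subgroup H :=
      { carrier := {k | ∀ x ∈ T ⊔ T', k.1 * x * k.1⁻¹ ∈ T ⊔ T'}
        one_mem' := fun x hx => by simpa using hx
        mul_mem' := fun {k l} hk hl x hx => by
          rw [show (k * l).1 * x * (k * l).1⁻¹ = k.1 * (l.1 * x * l.1⁻¹) * k.1⁻¹ by
            simp only [Subgroup.coe_mul]; group]
          exact hk _ (hl x hx)
        inv_mem' := fun {k} hk x hx => by
          have hle : (T ⊔ T').map (MulAut.conj k.1).toMonoidHom ≤ T ⊔ T' := by
            rintro _ ⟨w, hw, rfl⟩; exact hk w hw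
          have heq := Subgroup.eq_of_le_of_card_ge hle
            (le_of_eq (Subgroup.card_map_of_injective (MulAut.conj k.1).injective).symm)
          obtain ⟨w, hw, hwx⟩ := heq.symm.le hx
          rw [← hwx]
          simpa [mul_assoc] using hw }
    have hmemP : ∀ k : H, ((∀ u ∈ T, k.1 * u * k.1⁻¹ ∈ T ⊔ T') ∧ ∀ v ∈ T', k.1 * v * k.1⁻¹ ∈ T ⊔ T') → k ∈ P := by
      intro k hk
      have : T ⊔ T' ≤ (T ⊔ T').comap (MulAut.conj k.1).toMonoidHom :=
        sup_le (fun u hu => hk.1 u hu) (fun v hv => hk.2 v hv)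
      exact fun x hx => this hx
    have hfixP : ∀ k : H, (∀ u ∈ T, k.1 * u * k.1⁻¹ ∈ T) → k ∈ P := fun k hk => hmemP k
      ⟨fun u hu => Subgroup.mem_sup_left (hk u hu), fun v hv => Subgroup.mem_sup_right (hHfix k.1 k.2 hk v hv)⟩
    have hb : t • a ≠ a := fun e => ht1 (hTH t ht e)
    have hstab : ∀ k : H, k • (t • a) = t • a → k ∈ P := by
      intro k hk
      rcases hpair k.1 with h1 | h1
      · exact hfixP k h1
      have hkL : ∀ v ∈ T, ∃ s ∈ T, v * (k.1 * s * k.1⁻¹) ∈ M := by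
        refine hlink k.1 h1 t⁻¹ (T.inv_mem ht) (inv_ne_one.2 ht1) t ht ⟨N.mul_mem (N.inv_mem (hTN ht))
          (hNn.conj_mem t (hTN ht) k.1), ?_⟩
        show t⁻¹ * (k.1 * t * k.1⁻¹) ∈ MulAction.stabilizer G a
        rw [MulAction.mem_stabilizer_iff, mul_smul, mul_smul, mul_smul, inv_smul_eq_iff.2 k.2.symm,
          show k.1 • t • a = t • a from hk, inv_smul_smul]
      have h2 : ∀ u ∈ T, k.1 * u * k.1⁻¹ ∈ T' := fun u hu =>
        ⟨g⁻¹ * k.1 * u * (g⁻¹ * k.1)⁻¹, huniq k.1 h1 hkL u hu, by simp; group⟩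
      -- compose with the interchanging element
      have h3 : ∀ u ∈ T, (h₁ * k.1) * u * (h₁ * k.1)⁻¹ ∈ T := fun u hu => by
        have := hswap2 _ (h2 u hu)
        simpa [mul_assoc] using this
      have h4 : (⟨h₁, hh₁⟩ * k : H) ∈ P := hfixP _ h3
      have h5 : (⟨h₁, hh₁⟩ : H) ∈ P := hmemP _ ⟨fun u hu => Subgroup.mem_sup_right (hswap1 u hu),
        fun v hv => Subgroup.mem_sup_left (hswap2 v hv)⟩
      exact (P.mul_mem_cancel_left h5).1 h4
    have htop : P = ⊤ := by
      obtain ⟨m, hm, hmb⟩ := hMmove (t • a) hb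
      exact (hmax _ hb).2 P (SetLike.lt_iff_le_and_exists.2
        ⟨hstab, ⟨m, hm.2⟩, hfixP _ (hMT m hm), hmb⟩)
    intro h hh
    rcases hpair h with h1 | h1
    · exact Or.inl h1
    right
    intro u hu
    have hmem := (htop.symm.le (Subgroup.mem_top (⟨h, hh⟩ : H))) u (Subgroup.mem_sup_left hu)
    -- the commuting part of the pair product is the partner
    have hle : T ≤ Subgroup.normalizer (T' : Set G) := fun w hw => by
      rw [Subgroup.mem_normalizer_iff]
      refine fun v => ⟨fun hv => hT'n w (hTN hw) v hv, fun hv => ?_⟩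
      have := hT'n w⁻¹ (N.inv_mem (hTN hw)) _ hv
      simpa [mul_assoc] using this
    rw [← SetLike.mem_coe, Subgroup.coe_mul_of_left_le_normalizer_right _ _ hle] at hmem
    obtain ⟨w, hw, v, hv, hwv⟩ := hmem
    have hwC : w ∈ C := by
      have : w = h * u * h⁻¹ * v⁻¹ := eq_mul_inv_of_mul_eq hwv
      rw [this]
      exact C.mul_mem (hgC h h1 u hu) (C.inv_mem (hT'C hv))
    have hw1 : w = 1 := Subgroup.mem_bot.1 (hTC.le ⟨hw, hwC⟩)
    have : h * u * h⁻¹ = v := by rw [← hwv, hw1]; exact one_mul v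
    exact this ▸ hv
  have hnormTT : ∀ h ∈ H, ∀ x ∈ T ⊔ T', h * x * h⁻¹ ∈ T ⊔ T' := by
    intro h hh
    have h2 : ∀ v ∈ T', h * v * h⁻¹ ∈ T ⊔ T' := by
      rcases hpairs h hh with h1 | h1
      · exact fun v hv => Subgroup.mem_sup_right (hHfix h hh h1 v hv)
      · intro v hv
        -- compose with the interchanging element
        have h3 : ∀ u ∈ T, (h₁ * h) * u * (h₁ * h)⁻¹ ∈ T := fun u hu => by
          simpa [mul_assoc] using hswap2 _ (h1 u hu)
        have h4 := hHfix _ (H.mul_mem hh₁ hh) h3 v hv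
        obtain ⟨u, hu, hue⟩ : ∃ u ∈ T, h₁ * u * h₁⁻¹ = h₁ * h * v * (h₁ * h)⁻¹ := by
          have hle : T.map (MulAut.conj h₁).toMonoidHom ≤ T' := by rintro _ ⟨w, hw, rfl⟩; exact hswap1 w hw
          have heq := Subgroup.eq_of_le_of_card_ge hle (by
            rw [hT', Subgroup.card_map_of_injective (MulAut.conj g).injective,
              Subgroup.card_map_of_injective (MulAut.conj h₁).injective])
          obtain ⟨u, hu, hue⟩ := heq.symm.le h4
          exact ⟨u, hu, hue⟩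
        have : h * v * h⁻¹ = u := by
          calc h * v * h⁻¹ = h₁⁻¹ * (h₁ * h * v * (h₁ * h)⁻¹) * h₁ := by group
            _ = u := by rw [← hue]; group
        exact Subgroup.mem_sup_left (this ▸ hu)
    have : T ⊔ T' ≤ (T ⊔ T').comap (MulAut.conj h).toMonoidHom := sup_le (fun u hu => by
      rcases hpairs h hh with h1 | h1
      · exact Subgroup.mem_sup_left (h1 u hu)
      · exact Subgroup.mem_sup_right (h1 u hu)) (fun v hv => h2 v hv)
    exact fun x hx => this hx
  have hTT : N = T ⊔ T' := by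
    refine (hNmin _ (hnormal _ (fun n hn => ?_) hnormTT) (sup_le hTN (hT'C.trans inf_le_left))
      (fun e => hT0 (eq_bot_iff.2 (le_sup_left.trans e.le)))).symm
    have : T ⊔ T' ≤ (T ⊔ T').comap (MulAut.conj n).toMonoidHom :=
      sup_le (fun u hu => Subgroup.mem_sup_left (hTn n hn u hu))
        (fun v hv => Subgroup.mem_sup_right (hT'n n hn v hv))
    exact fun x hx => this hx
  have hcomm' : ∀ u ∈ T, ∀ c ∈ T', u * c = c * u := fun u hu c hc => hcomm u hu c (hT'C hc)
  refine core_contradiction a T T' hTsol hcomm' ⟨fun u v e => ?_, fun b => ?_⟩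
    (fun u hu => ?_) hpairs hnormTT hmax
  · exact Subtype.ext (inv_mul_eq_one.1 (hTH _ (T.mul_mem (T.inv_mem v.2) u.2) (by
      rw [mul_smul, inv_smul_eq_iff]; exact e))).symm
  · obtain ⟨n, hn⟩ := hNt.exists_smul_eq a b
    have hle : T ≤ Subgroup.normalizer (T' : Set G) := fun w hw => by
      rw [Subgroup.mem_normalizer_iff]
      refine fun v => ⟨fun hv => hT'n w (hTN hw) v hv, fun hv => ?_⟩
      have := hT'n w⁻¹ (N.inv_mem (hTN hw)) _ hv
      simpa [mul_assoc] using this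
    have hmem := hTT.le n.2
    rw [← SetLike.mem_coe, Subgroup.coe_mul_of_left_le_normalizer_right _ _ hle] at hmem
    obtain ⟨u, hu, c, ⟨s, hs, hsc⟩, huc⟩ := hmem
    obtain ⟨w, hw, hwc⟩ : ∃ w ∈ T, w⁻¹ • a = c • a := by
      -- every element of the partner has a partner in the factor
      let R : Subgroup G :=
        { carrier := {z | z ∈ T ∧ ∃ v ∈ T, v * (g * z * g⁻¹) ∈ M}
          one_mem' := ⟨T.one_mem, 1, T.one_mem, by simp⟩
          mul_mem' := by
            rintro z z' ⟨hz, v, hv, h1⟩ ⟨hz', v', hv', h2⟩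
            refine ⟨T.mul_mem hz hz', v * v', T.mul_mem hv hv', ?_⟩
            have e : v * v' * (g * (z * z') * g⁻¹) = v * (g * z * g⁻¹) * (v' * (g * z' * g⁻¹)) := by
              calc v * v' * (g * (z * z') * g⁻¹) = v * (v' * (g * z * g⁻¹)) * (g * z' * g⁻¹) := by group
                _ = v * (g * z * g⁻¹ * v') * (g * z' * g⁻¹) := by rw [(hg z hz v' hv').eq]
                _ = _ := by group
            exact e ▸ M.mul_mem h1 h2
          inv_mem' := by
            rintro z ⟨hz, v, hv, h1⟩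
            refine ⟨T.inv_mem hz, v⁻¹, T.inv_mem hv, ?_⟩
            have e : v⁻¹ * (g * z⁻¹ * g⁻¹) = (v * (g * z * g⁻¹))⁻¹ := by rw [(hg z hz v hv).eq]; group
            exact e ▸ M.inv_mem h1 }
      have hRT : R = T := by
        refine Subgroup.eq_of_le_of_card_ge (fun z hz => hz.1) ?_
        choose f hf hfm using fun v : T => hL v.1 v.2
        let F : T → R := fun v => ⟨f v, hf v, v.1, v.2, hfm v⟩
        refine Nat.card_le_card_of_injective F fun v w e => Subtype.ext ?_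
        have e' : f v = f w := congrArg Subtype.val e
        have h1 := M.mul_mem (hfm v) (M.inv_mem (hfm w))
        rw [e', show v.1 * (g * f w * g⁻¹) * (w.1 * (g * f w * g⁻¹))⁻¹ = v.1 * w.1⁻¹ by group] at h1
        exact mul_inv_eq_one.1 (hTH _ (T.mul_mem v.2 (T.inv_mem w.2)) h1.2)
      obtain ⟨-, v, hv, hvm⟩ := hRT.symm.le hs
      refine ⟨v, hv, ?_⟩
      have := MulAction.mem_stabilizer_iff.1 hvm.2
      rw [mul_smul] at this
      rw [← hsc, inv_smul_eq_iff]
      exact this.symm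
    refine ⟨⟨u * w⁻¹, T.mul_mem hu (T.inv_mem hw)⟩, ?_⟩
    show (u * w⁻¹) • a = b
    rw [mul_smul, hwc, ← mul_smul, show u * c = n.1 from huc, ← Subgroup.smul_def, hn]
  · obtain ⟨s, hs, hm⟩ := hL u hu
    exact ⟨g * s * g⁻¹, ⟨s, hs, rfl⟩, hm.2⟩

end Cfsg.Lib.Recog.QuasiPrim
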