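import Cfsg.Prelude.Def_Transfer
import Cfsg.Agent.S0144
import Mathlib

/-!
Finite quasiprimitive groups: affine, almost simple, or with derangements in many classes.
-/

set_option autoImplicit false
set_option linter.unusedSectionVars false
set_option linter.style.haveILetI false

namespace Cfsg.Lib.Recog.QuasiPrim

open scoped commutatorElement

variable {G : Type*} [Group G] [Finite G] {Ω : Type*} [MulAction G Ω] [FaithfulSMul G Ω] [Finite Ω]

/-- Every non-trivial normal subgroup is transitive. -/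
def NormTrans (G : Type*) (Ω : Type*) [Group G] [MulAction G Ω] : Prop :=
  ∀ N : Subgroup G, N.Normal → N ≠ ⊥ → MulAction.IsPretransitive N Ω

/-- A non-solvable subgroup whose non-trivial elements move every point. -/
def FreePart (G : Type*) (Ω : Type*) [Group G] [MulAction G Ω] : Prop :=
  ∃ T : Subgroup G, ¬ Group.IsSolvable T ∧ ∀ t ∈ T, t ≠ 1 → ∀ ω : Ω, t • ω ≠ ω

/-- A product part with a derangement stable under the second factor. -/
def ProductPart (G : Type*) (Ω : Type*) [Group G] [MulAction G Ω] : Prop :=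
  ∃ (T C : Subgroup G) (t : G), ¬ Group.IsSolvable T ∧ (∀ u ∈ T, ∀ c ∈ C, u * c = c * u) ∧ T ⊓ C = ⊥ ∧
    (∀ g : G, (∀ u ∈ T, g * u * g⁻¹ ∈ T) ∨ (∀ u ∈ T, g * u * g⁻¹ ∈ C)) ∧
    (∃ g : G, ∀ u ∈ T, g * u * g⁻¹ ∈ C) ∧ t ∈ T ∧ t ≠ 1 ∧ ∀ c ∈ C, ∀ ω : Ω, (t * c) • ω ≠ ω

theorem isPreprimitive_normTrans (h : MulAction.IsPreprimitive G Ω) : NormTrans G Ω := by
  intro N hN hne
  haveI := h
  haveI := hN
  refine MulAction.IsQuasiPreprimitive.isPretransitive_of_normal fun hfix => hne ?_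
  rw [eq_bot_iff]
  intro n hn
  refine Subgroup.mem_bot.2 (FaithfulSMul.eq_of_smul_eq_smul fun ω : Ω => ?_)
  rw [one_smul]
  exact (hfix.symm ▸ Set.mem_univ ω : ω ∈ MulAction.fixedPoints N Ω) ⟨n, hn⟩

theorem free_of_commute {M N : Subgroup G} (hN : MulAction.IsPretransitive N Ω)
    (hc : ∀ m ∈ M, ∀ n ∈ N, m * n = n * m) : ∀ m ∈ M, m ≠ 1 → ∀ ω : Ω, m • ω ≠ ω := by
  intro m hm hm1 ω hω
  refine hm1 (FaithfulSMul.eq_of_smul_eq_smul fun x : Ω => ?_)
  obtain ⟨n, hn⟩ := hN.exists_smul_eq ω x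
  rw [one_smul, ← hn, Subgroup.smul_def, ← mul_smul, hc m hm n.1 n.2, mul_smul, hω]

theorem free_stabilizer {N : Subgroup G} (h : ∀ n ∈ N, n ≠ 1 → ∀ ω : Ω, n • ω ≠ ω) (ω : Ω) :
    MulAction.stabilizer N ω = ⊥ := by
  rw [eq_bot_iff]
  intro n hn
  by_contra hne
  exact h n.1 n.2 (fun e => hne (Subgroup.mem_bot.2 (Subtype.ext e))) ω hn

/-- In a transitive action on several points some element moves every point. -/
theorem exists_move_all {T : Type*} [Group T] [Finite T] {β : Type*} [MulAction T β] [Finite β] [Nontrivial β]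
    [MulAction.IsPretransitive T β] : ∃ t : T, ∀ b : β, t • b ≠ b := by
  classical
  by_contra h
  push Not at h
  haveI : Fintype T := Fintype.ofFinite T
  haveI : Fintype β := Fintype.ofFinite β
  have hb := MulAction.sum_card_fixedBy_eq_card_orbits_mul_card_group T β
  have h1 : Fintype.card (Quotient (MulAction.orbitRel T β)) = 1 := by
    obtain ⟨b⟩ : Nonempty β := inferInstance
    refine Fintype.card_eq_one_iff.2 ⟨Quotient.mk'' b, fun y => ?_⟩
    induction y using Quotient.inductionOn' with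
    | h a => exact Quotient.sound' (MulAction.exists_smul_eq T b a)
  rw [h1, one_mul] at hb
  have hlt : ∑ _t : T, 1 < ∑ t : T, Fintype.card (MulAction.fixedBy β t) := by
    refine Finset.sum_lt_sum (fun t _ => ?_) ⟨1, Finset.mem_univ _, ?_⟩
    · obtain ⟨b, hb⟩ := h t
      exact Fintype.card_pos_iff.2 ⟨⟨b, hb⟩⟩
    · obtain ⟨a, b, hab⟩ := exists_pair_ne β
      exact Fintype.one_lt_card_iff.2 ⟨⟨a, one_smul T a⟩, ⟨b, one_smul T b⟩,
        fun e => hab (congrArg Subtype.val e)⟩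
  rw [hb, Finset.sum_const, Finset.card_univ, smul_eq_mul, mul_one] at hlt
  exact lt_irrefl _ hlt

/-- A non-solvable group has elements of three prime orders. -/
theorem exists_three_primes {T : Type*} [Group T] [Finite T] (h : ¬ Group.IsSolvable T) :
    ∃ a b c : T, (orderOf a).Prime ∧ (orderOf b).Prime ∧ (orderOf c).Prime ∧ orderOf a ≠ orderOf b ∧
      orderOf a ≠ orderOf c ∧ orderOf b ≠ orderOf c := by
  classical
  by_contra hne
  have hsmall : (Nat.card T).primeFactors.card ≤ 2 := by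
    by_contra h2
    obtain ⟨p, q, r, hp, hq, hr, hpq, hpr, hqr⟩ := Finset.two_lt_card_iff.1 (not_le.1 h2)
    haveI := Fact.mk (Nat.prime_of_mem_primeFactors hp)
    haveI := Fact.mk (Nat.prime_of_mem_primeFactors hq)
    haveI := Fact.mk (Nat.prime_of_mem_primeFactors hr)
    obtain ⟨a, ha⟩ := exists_prime_orderOf_dvd_card' (G := T) p (Nat.dvd_of_mem_primeFactors hp)
    obtain ⟨b, hb⟩ := exists_prime_orderOf_dvd_card' (G := T) q (Nat.dvd_of_mem_primeFactors hq)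
    obtain ⟨c, hc⟩ := exists_prime_orderOf_dvd_card' (G := T) r (Nat.dvd_of_mem_primeFactors hr)
    exact hne ⟨a, b, c, ha ▸ Fact.out, hb ▸ Fact.out, hc ▸ Fact.out, by rw [ha, hb]; exact hpq,
      by rw [ha, hc]; exact hpr, by rw [hb, hc]; exact hqr⟩
  have hprod := Nat.factorization_prod_pow_eq_self (Nat.card_pos (α := T)).ne'
  rw [Finsupp.prod, Nat.support_factorization] at hprod
  refine h ?_
  rcases Nat.lt_or_ge (Nat.card T).primeFactors.card 2 with hlt | hge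
  · rcases Nat.eq_zero_or_pos (Nat.card T).primeFactors.card with h0 | hpos
    · rw [Finset.card_eq_zero.1 h0, Finset.prod_empty] at hprod
      exact Cfsg.Agent.S0144.result 2 2 0 0 Nat.prime_two Nat.prime_two (by simp [← hprod])
    · obtain ⟨p, hp⟩ := Finset.card_eq_one.1 (by omega : (Nat.card T).primeFactors.card = 1)
      rw [hp, Finset.prod_singleton] at hprod
      have hpp : p.Prime := Nat.prime_of_mem_primeFactors (hp ▸ Finset.mem_singleton_self p)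
      exact Cfsg.Agent.S0144.result p p ((Nat.card T).factorization p) 0 hpp hpp (by rw [pow_zero, mul_one]; exact hprod.symm)
  · obtain ⟨p, q, hpq, hs⟩ := Finset.card_eq_two.1 (by omega : (Nat.card T).primeFactors.card = 2)
    rw [hs, Finset.prod_pair hpq] at hprod
    exact Cfsg.Agent.S0144.result p q _ _ (Nat.prime_of_mem_primeFactors (hs ▸ Finset.mem_insert_self p {q}))
      (Nat.prime_of_mem_primeFactors (hs ▸ Finset.mem_insert_of_mem (Finset.mem_singleton_self q))) hprod.symm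

theorem comm_of_solvable_minimal {N T : Subgroup G} (hne : T ≠ ⊥) (hsol : Group.IsSolvable T)
    (hTn : ∀ n ∈ N, ∀ u ∈ T, n * u * n⁻¹ ∈ T)
    (hmin : ∀ K : Subgroup G, K ≤ T → (∀ n ∈ N, ∀ u ∈ K, n * u * n⁻¹ ∈ K) → K = ⊥ ∨ K = T) :
    ∀ a ∈ T, ∀ b ∈ T, a * b = b * a := by
  haveI := hsol
  haveI : Nontrivial T := (Subgroup.nontrivial_iff_ne_bot T).2 hne
  have hlt := Group.IsSolvable.commutator_lt_top_of_nontrivial T
  rcases hmin ⁅T, T⁆ (Subgroup.commutator_le_self T) (fun n hn u hu => by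
    have hle : ⁅T, T⁆ ≤ ⁅T, T⁆.comap (MulAut.conj n).toMonoidHom := Subgroup.commutator_le.2 fun a ha b hb => by
      rw [Subgroup.mem_comap]
      show n * ⁅a, b⁆ * n⁻¹ ∈ _
      rw [show n * ⁅a, b⁆ * n⁻¹ = ⁅n * a * n⁻¹, n * b * n⁻¹⁆ by simp only [commutatorElement_def]; group]
      exact Subgroup.commutator_mem_commutator (hTn n hn a ha) (hTn n hn b hb)
    exact hle hu) with h | h
  · intro a ha b hb
    exact (Subgroup.mem_centralizer_iff.1 (Subgroup.commutator_eq_bot_iff_le_centralizer.1 h hb)) a ha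
  · exfalso
    refine hlt.ne (eq_top_iff.2 fun a _ => ?_)
    have : a.1 ∈ (commutator T).map T.subtype := by
      rw [Subgroup.map_subtype_commutator, h]; exact a.2
    obtain ⟨b, hb, hba⟩ := this
    exact (Subtype.ext hba : b = a) ▸ hb

/-- The trichotomy for quasiprimitive groups. -/
theorem structure_cases [Nontrivial Ω] (hqp : NormTrans G Ω) :
    (∃ (N : Subgroup G) (r : ℕ), r.Prime ∧ N.Normal ∧ Cfsg.IsElementaryAbelian r N ∧
      MulAction.IsPretransitive N Ω ∧ ∀ a : Ω, MulAction.stabilizer N a = ⊥) ∨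
    (∃ T : Subgroup G, T.Normal ∧ IsSimpleGroup T ∧ ¬ IsMulCommutative T ∧
      Subgroup.centralizer (T : Set G) = ⊥) ∨
    (Subsingleton G ∨ FreePart G Ω ∨ ProductPart G Ω) := by
  classical
  cases subsingleton_or_nontrivial G
  · exact Or.inr (Or.inr (Or.inl inferInstance))
  obtain ⟨N, ⟨hNn, hN0⟩, hNmin'⟩ := Set.exists_min_image {M : Subgroup G | M.Normal ∧ M ≠ ⊥}
    (fun M => Nat.card M) (Set.toFinite _) ⟨⊤, inferInstance, top_ne_bot⟩
  haveI := hNn
  have hNmin : ∀ M : Subgroup G, M.Normal → M ≤ N → M ≠ ⊥ → M = N := fun M hM hle hne =>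
    Subgroup.eq_of_le_of_card_ge hle (hNmin' M ⟨hM, hne⟩)
  have hNt := hqp N hNn hN0
  by_cases hab : ∀ a ∈ N, ∀ b ∈ N, a * b = b * a
  · left
    have hfree := free_of_commute (Ω := Ω) hNt hab
    obtain ⟨r, hr, hrd⟩ := Nat.exists_prime_and_dvd (n := Nat.card N) (by rw [Ne, Subgroup.card_eq_one]; exact hN0)
    haveI : Fact r.Prime := ⟨hr⟩
    obtain ⟨a, ha⟩ := exists_prime_orderOf_dvd_card' (G := N) r hrd
    let E : Subgroup G :=
      { carrier := {g | g ∈ N ∧ g ^ r = 1}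
        one_mem' := ⟨N.one_mem, one_pow r⟩
        mul_mem' := fun {g h} hg hh => ⟨N.mul_mem hg.1 hh.1, by
          rw [(show Commute g h from hab g hg.1 h hh.1).mul_pow, hg.2, hh.2, one_mul]⟩
        inv_mem' := fun {g} hg => ⟨N.inv_mem hg.1, by rw [inv_pow, hg.2, inv_one]⟩ }
    have hEn : E.Normal := ⟨fun g hg x => ⟨hNn.conj_mem g hg.1 x, by
      rw [conj_pow, hg.2, mul_one, mul_inv_cancel]⟩⟩
    have hEN : E = N := hNmin E hEn (fun g hg => hg.1) fun h => by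
      have h1 : a.1 ∈ E := ⟨a.2, by rw [← Subgroup.coe_pow, ← ha, pow_orderOf_eq_one, Subgroup.coe_one]⟩
      rw [h, Subgroup.mem_bot] at h1
      rw [show a = 1 from Subtype.ext h1, orderOf_one] at ha
      exact hr.one_lt.ne ha
    exact ⟨N, r, hr, hNn, ⟨⟨⟨fun x y => Subtype.ext (hab x.1 x.2 y.1 y.2)⟩⟩,
      fun x hx => (hEN.symm.le hx).2⟩, hNt, free_stabilizer hfree⟩
  right
  have hNsol : ¬ Group.IsSolvable N := fun hsol => hab (comm_of_solvable_minimal (N := ⊤) hN0 hsol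
    (fun n _ u hu => hNn.conj_mem u hu n) (fun K hK hKn => or_iff_not_imp_left.2 fun hne =>
      hNmin K ⟨fun u hu g => hKn g trivial u hu⟩ hK hne))
  by_cases hC0 : Subgroup.centralizer (N : Set G) = ⊥
  swap
  · right; right; left
    haveI : (Subgroup.centralizer (N : Set G)).Normal := Subgroup.normal_centralizer
    exact ⟨N, hNsol, free_of_commute (hqp _ inferInstance hC0)
      fun m hm n hn => Subgroup.mem_centralizer_iff.1 hn m hm⟩
  -- a minimal normal subgroup of the socle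
  obtain ⟨T, ⟨hTN, hTn, hT0⟩, hTmin'⟩ := Set.exists_min_image
    {K : Subgroup G | K ≤ N ∧ (∀ n ∈ N, ∀ u ∈ K, n * u * n⁻¹ ∈ K) ∧ K ≠ ⊥}
    (fun M => Nat.card M) (Set.toFinite _) ⟨N, le_rfl, fun n hn u hu => N.mul_mem (N.mul_mem hn hu) (N.inv_mem hn), hN0⟩
  have hTmin : ∀ K : Subgroup G, K ≤ T → (∀ n ∈ N, ∀ u ∈ K, n * u * n⁻¹ ∈ K) → K = ⊥ ∨ K = T := fun K hK hKn =>
    or_iff_not_imp_left.2 fun hne => Subgroup.eq_of_le_of_card_ge hK (hTmin' K ⟨hK.trans hTN, hKn, hne⟩)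
  set C := N ⊓ Subgroup.centralizer (T : Set G) with hCdef
  have hcomm : ∀ u ∈ T, ∀ c ∈ C, u * c = c * u := fun u hu c hc => Subgroup.mem_centralizer_iff.1 hc.2 u hu
  have hCn : ∀ n ∈ N, ∀ c ∈ C, n * c * n⁻¹ ∈ C := by
    intro n hn c hc
    refine ⟨N.mul_mem (N.mul_mem hn hc.1) (N.inv_mem hn), Subgroup.mem_centralizer_iff.2 fun u hu => ?_⟩
    have hu' : n⁻¹ * u * n ∈ T := by simpa using hTn n⁻¹ (N.inv_mem hn) u hu
    calc u * (n * c * n⁻¹) = n * (n⁻¹ * u * n * c) * n⁻¹ := by group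
      _ = n * (c * (n⁻¹ * u * n)) * n⁻¹ := by rw [hcomm _ hu' c hc]
      _ = n * c * n⁻¹ * u := by group
  -- conjugates
  have hconj : ∀ g : G, (∀ u ∈ T, g * u * g⁻¹ ∈ T) ∨ (∀ u ∈ T, g * u * g⁻¹ ∈ C) := by
    intro g
    set Tg := T.map (MulAut.conj g).toMonoidHom
    have hTgN : Tg ≤ N := by
      rintro _ ⟨u, hu, rfl⟩; exact hNn.conj_mem u (hTN hu) g
    have hTgn : ∀ n ∈ N, ∀ v ∈ Tg, n * v * n⁻¹ ∈ Tg := by
      rintro n hn _ ⟨u, hu, rfl⟩
      have hn' : g⁻¹ * n * g ∈ N := by simpa using hNn.conj_mem n hn g⁻¹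
      exact ⟨g⁻¹ * n * g * u * (g⁻¹ * n * g)⁻¹, hTn _ hn' u hu, by simp; group⟩
    rcases hTmin (T ⊓ Tg) inf_le_left (fun n hn u hu => ⟨hTn n hn u hu.1, hTgn n hn u hu.2⟩) with h | h
    · right
      intro u hu
      have hv : g * u * g⁻¹ ∈ Tg := ⟨u, hu, rfl⟩
      refine ⟨hTgN hv, Subgroup.mem_centralizer_iff.2 fun w hw => ?_⟩
      have h1 : w * (g * u * g⁻¹) * w⁻¹ * (g * u * g⁻¹)⁻¹ ∈ T ⊓ Tg := by
        refine ⟨?_, Tg.mul_mem (hTgn w (hTN hw) _ hv) (Tg.inv_mem hv)⟩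
        rw [show w * (g * u * g⁻¹) * w⁻¹ * (g * u * g⁻¹)⁻¹ =
          w * ((g * u * g⁻¹) * w⁻¹ * (g * u * g⁻¹)⁻¹) by group]
        exact T.mul_mem hw (hTn _ (hTgN hv) _ (T.inv_mem hw))
      rw [h, Subgroup.mem_bot, mul_inv_eq_one, mul_inv_eq_iff_eq_mul] at h1
      exact h1
    · left
      intro u hu
      have hT' : T = Tg := Subgroup.eq_of_le_of_card_ge (inf_eq_left.1 h)
        (le_of_eq (Subgroup.card_map_of_injective (MulAut.conj g).injective))
      exact hT'.symm.le ⟨u, hu, rfl⟩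
  have hNTC : ∀ n ∈ N, ∃ u ∈ T, ∃ d ∈ C, u * d = n := by
    have hle : T ≤ Subgroup.normalizer (C : Set G) := fun u hu => by
      rw [Subgroup.mem_normalizer_iff]
      refine fun c => ⟨fun hc => hCn u (hTN hu) c hc, fun hc => ?_⟩
      have := hCn u⁻¹ (N.inv_mem (hTN hu)) _ hc
      simpa [mul_assoc] using this
    set J := Subgroup.normalClosure (T : Set G)
    have hJN : J = N := hNmin J Subgroup.normalClosure_normal (Subgroup.normalClosure_le_normal hTN)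
      fun h => hT0 (eq_bot_iff.2 (Subgroup.subset_normalClosure.trans h.le))
    have hJ : J ≤ T ⊔ C := by
      refine (Subgroup.closure_le _).2 fun v hv => ?_
      obtain ⟨u, hu, huv⟩ := Group.mem_conjugatesOfSet_iff.1 hv
      obtain ⟨g, rfl⟩ := isConj_iff.1 huv
      rcases hconj g with h | h
      · exact Subgroup.mem_sup_left (h u hu)
      · exact Subgroup.mem_sup_right (h u hu)
    intro n hn
    have hmem : n ∈ T ⊔ C := hJ (hJN.symm.le hn)
    rw [← SetLike.mem_coe, Subgroup.coe_mul_of_left_le_normalizer_right _ _ hle] at hmem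
    exact hmem
  have hTnab : ¬ ∀ a ∈ T, ∀ b ∈ T, a * b = b * a := by
    intro hTab
    have hZ : T ≤ N ⊓ Subgroup.centralizer (N : Set G) := fun u hu => ⟨hTN hu,
      Subgroup.mem_centralizer_iff.2 fun n hn => by
        obtain ⟨v, hv, d, hd, rfl⟩ := hNTC n hn
        rw [mul_assoc, ← hcomm u hu d hd, ← mul_assoc, ← hTab u hu v hv, mul_assoc]⟩
    exact hT0 (eq_bot_iff.2 (hZ.trans (inf_le_right.trans hC0.le)))
  have hTsol : ¬ Group.IsSolvable T := fun hsol => hTnab (comm_of_solvable_minimal hT0 hsol hTn hTmin)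
  have hTC : T ⊓ C = ⊥ := by
    rcases hTmin (T ⊓ C) inf_le_left (fun n hn u hu => ⟨hTn n hn u hu.1, hCn n hn u hu.2⟩) with h | h
    · exact h
    · exact absurd (fun a ha b hb => hcomm a ha b (inf_eq_left.1 h hb)) hTnab
  by_cases hC : C = ⊥
  · left
    have hTNe : T = N := le_antisymm hTN fun n hn => by
      obtain ⟨u, hu, d, hd, rfl⟩ := hNTC n hn
      rw [hC, Subgroup.mem_bot] at hd
      rwa [hd, mul_one]
    subst hTNe
    haveI : Nontrivial T := (Subgroup.nontrivial_iff_ne_bot T).2 hT0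
    refine ⟨T, hNn, ⟨fun K hK => ?_⟩, fun h => hab fun a ha b hb =>
      congrArg Subtype.val (h.is_comm.comm ⟨a, ha⟩ ⟨b, hb⟩), hC0⟩
    rcases hTmin (K.map T.subtype) (Subgroup.map_subtype_le K) (by
      rintro n hn _ ⟨u, hu, rfl⟩
      exact ⟨⟨n, hn⟩ * u * ⟨n, hn⟩⁻¹, hK.conj_mem u hu _, rfl⟩) with h | h
    · exact Or.inl ((Subgroup.map_eq_bot_iff_of_injective K T.subtype_injective).1 h)
    · refine Or.inr (eq_top_iff.2 fun u _ => ?_)
      obtain ⟨v, hv, hvu⟩ := h.symm.le u.2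
      exact (Subtype.ext hvu : v = u) ▸ hv
  have hex : ∃ g : G, ∀ u ∈ T, g * u * g⁻¹ ∈ C := by
    by_contra h
    push Not at h
    have hTnorm : T.Normal := ⟨fun u hu g => ((hconj g).resolve_right (fun h' => by
      obtain ⟨w, hw, hwn⟩ := h g
      exact hwn (h' w hw))) u hu⟩
    have hTNe := hNmin T hTnorm hTN hT0
    exact hC (eq_bot_iff.2 ((le_of_eq (by rw [hCdef, hTNe])).trans (inf_le_right.trans hC0.le)))
  obtain ⟨ω⟩ : Nonempty Ω := inferInstance
  set S := N ⊓ MulAction.stabilizer G ω with hSdef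
  have hSC : ∀ s ∈ S ⊔ C, ∃ s' ∈ S, ∃ c ∈ C, s' * c = s := by
    intro s hs
    have hle : S ≤ Subgroup.normalizer (C : Set G) := fun u hu => by
      rw [Subgroup.mem_normalizer_iff]
      refine fun c => ⟨fun hc => hCn u hu.1 c hc, fun hc => ?_⟩
      have := hCn u⁻¹ (N.inv_mem hu.1) _ hc
      simpa [mul_assoc] using this
    rw [← SetLike.mem_coe, Subgroup.coe_mul_of_left_le_normalizer_right _ _ hle] at hs
    exact hs
  by_cases hR : T ≤ S ⊔ C
  · right; right; left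
    refine ⟨T, hTsol, fun t ht ht1 x hx => ?_⟩
    have hAn : ∀ n ∈ N, ∀ u ∈ T ⊓ S, n * u * n⁻¹ ∈ T ⊓ S := by
      intro n hn u hu
      obtain ⟨v, hv, d, hd, rfl⟩ := hNTC n hn
      obtain ⟨s', hs', c, hc, hsc⟩ := hSC v (hR hv)
      have hud : d * u = u * d := (hcomm u hu.1 d hd).symm
      have huc : c * u = u * c := (hcomm u hu.1 c hc).symm
      have e : v * d * u * (v * d)⁻¹ = s' * u * s'⁻¹ := by
        calc v * d * u * (v * d)⁻¹ = v * (d * u) * d⁻¹ * v⁻¹ := by group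
          _ = v * u * v⁻¹ := by rw [hud]; group
          _ = s' * (c * u) * c⁻¹ * s'⁻¹ := by rw [← hsc]; group
          _ = s' * u * s'⁻¹ := by rw [huc]; group
      exact ⟨hTn _ hn u hu.1, e ▸ S.mul_mem (S.mul_mem hs' hu.2) (S.inv_mem hs')⟩
    rcases hTmin (T ⊓ S) inf_le_left hAn with h | h
    · obtain ⟨n, rfl⟩ := hNt.exists_smul_eq ω x
      have hmem : n.1⁻¹ * t * n.1 ∈ T ⊓ S := by
        refine ⟨by simpa using hTn n.1⁻¹ (N.inv_mem n.2) t ht,
          N.mul_mem (N.mul_mem (N.inv_mem n.2) (hTN ht)) n.2, MulAction.mem_stabilizer_iff.2 ?_⟩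
        rw [mul_smul, mul_smul, ← Subgroup.smul_def, hx, Subgroup.smul_def,
          inv_smul_smul]
      rw [h, Subgroup.mem_bot] at hmem
      refine ht1 ?_
      calc t = n.1 * (n.1⁻¹ * t * n.1) * n.1⁻¹ := by group
        _ = 1 := by rw [hmem]; group
    · refine hT0 (eq_bot_iff.2 fun u hu => Subgroup.mem_bot.2 (FaithfulSMul.eq_of_smul_eq_smul fun y : Ω => ?_))
      obtain ⟨n, rfl⟩ := hNt.exists_smul_eq ω y
      have hu' : n.1⁻¹ * u * n.1 ∈ S := ((inf_eq_left.1 h) (by simpa using hTn n.1⁻¹ (N.inv_mem n.2) u hu))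
      have := MulAction.mem_stabilizer_iff.1 hu'.2
      rw [mul_smul, mul_smul, inv_smul_eq_iff] at this
      rw [one_smul, Subgroup.smul_def, this]
  · right; right; right
    set R := (S ⊔ C).subgroupOf T
    haveI : Nontrivial (T ⧸ R) := by
      rw [← Finite.one_lt_card_iff_nontrivial, ← Subgroup.index_eq_card]
      refine Subgroup.one_lt_index_of_ne_top fun h => hR fun u hu => ?_
      exact Subgroup.mem_subgroupOf.1 (h.symm ▸ Subgroup.mem_top (⟨u, hu⟩ : T) : (⟨u, hu⟩ : T) ∈ R)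
    obtain ⟨t, ht⟩ := exists_move_all (T := T) (β := T ⧸ R)
    refine ⟨T, C, t.1, hTsol, hcomm, hTC, hconj, hex, t.2, fun e => ?_, fun d hd x hx => ?_⟩
    · refine ht (QuotientGroup.mk (1 : T)) ?_
      rw [show t = 1 from Subtype.ext e, one_smul]
    obtain ⟨n, rfl⟩ := hNt.exists_smul_eq ω x
    obtain ⟨v, hv, e, he, hve⟩ := hNTC n.1 n.2
    have hS : n.1⁻¹ * (t.1 * d) * n.1 ∈ S := by
      refine ⟨N.mul_mem (N.mul_mem (N.inv_mem n.2) (N.mul_mem (hTN t.2) hd.1)) n.2, MulAction.mem_stabilizer_iff.2 ?_⟩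
      rw [mul_smul, mul_smul, ← Subgroup.smul_def, hx, Subgroup.smul_def, inv_smul_smul]
    have hve' : e⁻¹ * (v⁻¹ * t.1 * v) = v⁻¹ * t.1 * v * e⁻¹ :=
      (hcomm _ (T.mul_mem (T.mul_mem (T.inv_mem hv) t.2) hv) e⁻¹ (C.inv_mem he)).symm
    have heq : v⁻¹ * t.1 * v = n.1⁻¹ * (t.1 * d) * n.1 * (e⁻¹ * (v⁻¹ * d * v) * e)⁻¹ := by
      rw [← hve]
      calc v⁻¹ * t.1 * v = v⁻¹ * t.1 * v * e⁻¹ * e := by group
        _ = e⁻¹ * (v⁻¹ * t.1 * v) * e := by rw [hve']
        _ = _ := by group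
    have hC' : e⁻¹ * (v⁻¹ * d * v) * e ∈ C :=
      C.mul_mem (C.mul_mem (C.inv_mem he) (by simpa using hCn v⁻¹ (N.inv_mem (hTN hv)) d hd)) he
    have hmem : (⟨v⁻¹ * t.1 * v, T.mul_mem (T.mul_mem (T.inv_mem hv) t.2) hv⟩ : T) ∈ R := by
      rw [Subgroup.mem_subgroupOf]
      show v⁻¹ * t.1 * v ∈ S ⊔ C
      rw [heq]
      exact (S ⊔ C).mul_mem (Subgroup.mem_sup_left hS) ((S ⊔ C).inv_mem (Subgroup.mem_sup_right hC'))
    refine ht (QuotientGroup.mk ⟨v, hv⟩) ?_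
    rw [MulAction.Quotient.smul_mk, QuotientGroup.eq]
    have : ((t • (⟨v, hv⟩ : T))⁻¹ * ⟨v, hv⟩ : T) = (⟨v⁻¹ * t.1 * v, T.mul_mem (T.mul_mem (T.inv_mem hv) t.2) hv⟩ : T)⁻¹ :=
      Subtype.ext (by simp [mul_assoc])
    rw [this]
    exact R.inv_mem hmem

/-- The points fixed by no element of a class. -/
abbrev DerClasses (G : Type*) (Ω : Type*) [Group G] [MulAction G Ω] : Type _ :=
  {c : ConjClasses G // ∃ g : G, ConjClasses.mk g = c ∧ ∀ ω : Ω, g • ω ≠ ω}

theorem three_le_classes {a b c : G} (ha : ∀ ω : Ω, a • ω ≠ ω) (hb : ∀ ω : Ω, b • ω ≠ ω)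
    (hc : ∀ ω : Ω, c • ω ≠ ω) (hab : ¬ IsConj a b) (hac : ¬ IsConj a c) (hbc : ¬ IsConj b c) :
    3 ≤ Nat.card (DerClasses G Ω) := by
  classical
  haveI : Fintype (DerClasses G Ω) := Fintype.ofFinite _
  rw [Nat.card_eq_fintype_card]
  refine Fintype.two_lt_card_iff.2 ⟨⟨_, a, rfl, ha⟩, ⟨_, b, rfl, hb⟩, ⟨_, c, rfl, hc⟩, ?_, ?_, ?_⟩ <;>
    intro e <;> have e' := ConjClasses.mk_eq_mk_iff_isConj.1 (congrArg Subtype.val e)
  exacts [hab e', hac e', hbc e']

theorem orderOf_eq_of_isConj {a b : G} (h : IsConj a b) : orderOf a = orderOf b := by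
  obtain ⟨g, rfl⟩ := isConj_iff.1 h
  exact (orderOf_injective (MulAut.conj g).toMonoidHom (MulAut.conj g).injective a).symm

theorem three_classes (h : FreePart G Ω ∨ ProductPart G Ω) : 3 ≤ Nat.card (DerClasses G Ω) := by
  rcases h with ⟨T, hT, hfree⟩ | ⟨T, C, t, hT, hcomm, hTC, hconj, ⟨g, hg⟩, ht, ht1, hder⟩
  · obtain ⟨a, b, c, ha, hb, hc, hab, hac, hbc⟩ := exists_three_primes hT
    have hne : ∀ x : T, (orderOf x).Prime → (x : G) ≠ 1 := fun x hx e => by
      rw [show x = 1 from Subtype.ext e, orderOf_one] at hx; exact Nat.not_prime_one hx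
    exact three_le_classes (hfree a a.2 (hne a ha)) (hfree b b.2 (hne b hb)) (hfree c c.2 (hne c hc))
      (fun e => hab (by rw [← Subgroup.orderOf_coe a, ← Subgroup.orderOf_coe b]; exact orderOf_eq_of_isConj e))
      (fun e => hac (by rw [← Subgroup.orderOf_coe a, ← Subgroup.orderOf_coe c]; exact orderOf_eq_of_isConj e))
      (fun e => hbc (by rw [← Subgroup.orderOf_coe b, ← Subgroup.orderOf_coe c]; exact orderOf_eq_of_isConj e))
  obtain ⟨a, b, -, ha, hb, -, hab, -, -⟩ := exists_three_primes hT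
  have hdis : ∀ x, x ∈ T → x ∈ C → x = 1 := fun x h1 h2 =>
    Subgroup.mem_bot.1 (hTC ▸ (⟨h1, h2⟩ : x ∈ T ⊓ C))
  have huniq : ∀ u ∈ T, ∀ d ∈ C, ∀ u' ∈ T, ∀ d' ∈ C, u * d = u' * d' → u = u' ∧ d = d' := by
    intro u hu d hd u' hu' d' hd' e
    have e1 : u'⁻¹ * u = d' * d⁻¹ := by
      calc u'⁻¹ * u = u'⁻¹ * (u * d) * d⁻¹ := by group
        _ = d' * d⁻¹ := by rw [e]; group
    have h1 := hdis _ (T.mul_mem (T.inv_mem hu') hu) (e1 ▸ C.mul_mem hd' (C.inv_mem hd))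
    have h2 : u = u' := (inv_mul_eq_one.1 h1).symm
    subst h2
    exact ⟨rfl, mul_left_cancel e⟩
  set c₁ := g * a.1 * g⁻¹ with hc₁
  set c₂ := g * b.1 * g⁻¹ with hc₂
  have ho : ∀ u : T, orderOf (g * u.1 * g⁻¹) = orderOf u := fun u => by
    rw [← orderOf_eq_of_isConj (isConj_iff.2 ⟨g, rfl⟩), Subgroup.orderOf_coe]
  have h0 : ∀ u : T, (orderOf u).Prime → ¬ IsConj t (t * (g * u.1 * g⁻¹)) := by
    intro u hu e
    obtain ⟨h, hh⟩ := isConj_iff.1 e
    rcases hconj h with hT' | hC'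
    · have := (huniq _ (hT' t ht) 1 C.one_mem t ht _ (hg u u.2) (by rw [mul_one, hh])).2
      have h1 := ho u
      rw [← this, orderOf_one] at h1
      exact hu.one_lt.ne h1
    · exact ht1 ((huniq 1 T.one_mem _ (hC' t ht) t ht _ (hg u u.2) (by rw [one_mul, hh])).1).symm
  refine three_le_classes (a := t) (b := t * c₁) (c := t * c₂) ?_ (hder c₁ (hg a a.2)) (hder c₂ (hg b b.2))
    (h0 a ha) (h0 b hb) ?_
  · simpa using hder 1 C.one_mem
  intro e
  obtain ⟨h, hh⟩ := isConj_iff.1 e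
  have hh' : h * t * h⁻¹ * (h * c₁ * h⁻¹) = t * c₂ := by rw [← hh]; group
  have hc₁' : h * c₁ * h⁻¹ = (h * g) * a.1 * (h * g)⁻¹ := by rw [hc₁]; group
  have hoc : orderOf (h * c₁ * h⁻¹) = orderOf a := by
    rw [← orderOf_eq_of_isConj (isConj_iff.2 ⟨h, rfl⟩), hc₁, ho]
  have hot : orderOf (h * t * h⁻¹) = orderOf t := (orderOf_eq_of_isConj (isConj_iff.2 ⟨h, rfl⟩)).symm
  rcases hconj h with hT' | hC'
  · rcases hconj (h * g) with hT'' | hC''
    · refine ht1 ?_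
      have := (huniq _ (T.mul_mem (hT' t ht) (hc₁' ▸ hT'' a a.2)) 1 C.one_mem t ht c₂ (hg b b.2)
        (by rw [mul_one, hh'])).2
      have h1 : orderOf c₂ = orderOf b := ho b
      rw [← this, orderOf_one] at h1
      exact absurd h1 hb.one_lt.ne
    · have := (huniq _ (hT' t ht) _ (hc₁' ▸ hC'' a a.2) t ht c₂ (hg b b.2) hh').2
      rw [this, hc₂, ho] at hoc
      exact hab hoc.symm
  · rcases hconj (h * g) with hT'' | hC''
    · have h1 := hcomm _ (hc₁' ▸ hT'' a a.2) _ (hC' t ht)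
      obtain ⟨e1, e2⟩ := huniq _ (hc₁' ▸ hT'' a a.2) _ (hC' t ht) t ht c₂ (hg b b.2) (by rw [h1, hh'])
      rw [e1] at hoc
      rw [e2, hc₂, ho] at hot
      exact hab (hoc.symm.trans hot.symm)
    · exact ht1 ((huniq 1 T.one_mem _ (C.mul_mem (hC' t ht) (hc₁' ▸ hC'' a a.2)) t ht c₂ (hg b b.2)
        (by rw [one_mul, hh'])).1).symm

theorem exists_not_prime_pow (h : FreePart G Ω ∨ ProductPart G Ω) (p : ℕ) (hp : p.Prime) :
    ∃ g : G, (∀ ω : Ω, g • ω ≠ ω) ∧ ∀ k, orderOf g ≠ p ^ k := by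
  have hne : ∀ {T : Subgroup G}, ¬ Group.IsSolvable T → ∃ u : T, (orderOf u).Prime ∧ orderOf u ≠ p := by
    intro T hT
    obtain ⟨a, b, -, ha, hb, -, hab, -, -⟩ := exists_three_primes hT
    by_cases e : orderOf a = p
    · exact ⟨b, hb, fun e' => hab (e.trans e'.symm)⟩
    · exact ⟨a, ha, e⟩
  rcases h with ⟨T, hT, hfree⟩ | ⟨T, C, t, hT, hcomm, hTC, -, ⟨g, hg⟩, ht, -, hder⟩
  · obtain ⟨u, hu, hup⟩ := hne hT
    refine ⟨u, hfree u u.2 (fun e => ?_), fun k e => ?_⟩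
    · rw [show u = 1 from Subtype.ext e, orderOf_one] at hu; exact Nat.not_prime_one hu
    · rw [Subgroup.orderOf_coe] at e
      exact hup ((Nat.prime_dvd_prime_iff_eq hu hp).1 (hu.dvd_of_dvd_pow (dvd_of_eq e)))
  obtain ⟨u, hu, hup⟩ := hne hT
  refine ⟨t * (g * u.1 * g⁻¹), hder _ (hg u u.2), fun k e => hup ?_⟩
  have h1 := pow_orderOf_eq_one (t * (g * u.1 * g⁻¹))
  rw [e, (show Commute t _ from hcomm t ht _ (hg u u.2)).mul_pow, mul_eq_one_iff_inv_eq] at h1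
  have h2 : (g * u.1 * g⁻¹) ^ p ^ k ∈ T ⊓ C :=
    ⟨h1 ▸ T.inv_mem (T.pow_mem ht _), C.pow_mem (hg u u.2) _⟩
  rw [hTC, Subgroup.mem_bot] at h2
  have h3 := orderOf_dvd_of_pow_eq_one h2
  rw [← orderOf_eq_of_isConj (isConj_iff.2 ⟨g, rfl⟩), Subgroup.orderOf_coe] at h3
  exact (Nat.prime_dvd_prime_iff_eq hu hp).1 (hu.dvd_of_dvd_pow h3)

end Cfsg.Lib.Recog.QuasiPrim
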