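import Cfsg.Agent.Lib.Local.GlaubermanComplement
import Cfsg.Agent.Lib.Thompson.FixedPointFree
import Cfsg.Agent.Lib.Recog.QuasiPrim.Socle

/-!
A simple group cannot carry an action in which every point stabiliser of a non-trivial element is maximal.
-/

set_option autoImplicit false
set_option linter.unusedSectionVars false
set_option linter.style.haveILetI false

namespace Cfsg.Lib.Recog.QuasiPrim

theorem no_maximal_centralisers {T : Type*} [Group T] [Finite T] [IsSimpleGroup T] (hns : ¬ Group.IsSolvable T)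
    {K : Type*} [Group K] [Finite K] [MulAction K T] (κ : T →* K) (hκn : κ.range.Normal)
    (hκ : ∀ u x : T, κ u • x = u * x * u⁻¹)
    (hmul : ∀ (k : K) (x y : T), Commute x y → k • (x * y) = (k • x) * (k • y))
    (hmax : ∀ x : T, x ≠ 1 → IsCoatom (MulAction.stabilizer K x)) : False := by
  classical
  obtain ⟨p, hpp, hp2, hpd⟩ : ∃ p, p.Prime ∧ p ≠ 2 ∧ p ∣ Nat.card T := by
    obtain ⟨a, b, -, ha, hb, -, hab, -, -⟩ := exists_three_primes hns
    by_cases h : orderOf a = 2
    · exact ⟨_, hb, fun e => hab (h.trans e.symm), orderOf_dvd_natCard b⟩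
    · exact ⟨_, ha, h, orderOf_dvd_natCard a⟩
  haveI := Fact.mk hpp
  obtain ⟨P⟩ : Nonempty (Sylow p T) := inferInstance
  have hP1 : (P : Subgroup T) ≠ ⊥ := P.ne_bot_of_dvd_card hpd
  haveI : Nontrivial (P : Subgroup T) := (Subgroup.nontrivial_iff_ne_bot _).2 hP1
  haveI := P.isPGroup'.center_nontrivial
  obtain ⟨z', hz'⟩ := exists_ne (1 : Subgroup.center (P : Subgroup T))
  set z : T := z'.1.1 with hzdef
  have hz : z ≠ 1 := fun e => hz' (Subtype.ext (Subtype.ext e))
  have hone : ∀ k : K, k • (1 : T) = 1 := fun k => by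
    have h := hmul k 1 1 (Commute.refl 1)
    rw [mul_one] at h
    exact mul_eq_left.1 h.symm
  have hpow : ∀ (k : K) (x : T) (n : ℕ), k • x ^ n = (k • x) ^ n := by
    intro k x n
    induction n with
    | zero => simp [hone]
    | succ n ih => rw [pow_succ, pow_succ, hmul k _ _ ((Commute.refl x).pow_left n), ih]
  set C := Subgroup.centralizer ({z} : Set T) with hCdef
  have hCmem : ∀ u : T, u ∈ C ↔ κ u • z = z := fun u => by
    rw [hCdef, Subgroup.mem_centralizer_singleton_iff, hκ, mul_inv_eq_iff_eq_mul]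
  obtain ⟨a, ha⟩ := IsPGroup.iff_orderOf.1 P.isPGroup' z'.1
  rw [← Subgroup.orderOf_coe] at ha
  -- elements of order prime to the characteristic are central
  have hcen : ∀ y ∈ C, ¬ p ∣ orderOf y → ∀ u ∈ C, u * y = y * u := by
    intro y hy hpy u hu
    rcases eq_or_ne y 1 with rfl | hy1
    · simp
    have hcom : Commute y z := Subgroup.mem_centralizer_singleton_iff.1 hy
    have hco : Nat.Coprime (orderOf z) (orderOf y) := by
      rw [hzdef, ha]; exact Nat.Coprime.pow_left _ ((hpp.coprime_iff_not_dvd).2 hpy)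
    obtain ⟨n, hn1, hn0⟩ := Nat.chineseRemainder hco 1 0
    obtain ⟨m, hm0, hm1⟩ := Nat.chineseRemainder hco 0 1
    have hpz : (z * y) ^ n = z := by
      rw [hcom.symm.mul_pow, pow_eq_pow_iff_modEq.2 hn1, pow_one, pow_eq_pow_iff_modEq.2 hn0, pow_zero, mul_one]
    have hpy' : (z * y) ^ m = y := by
      rw [hcom.symm.mul_pow, pow_eq_pow_iff_modEq.2 hm0, pow_zero, pow_eq_pow_iff_modEq.2 hm1, pow_one, one_mul]
    have hzy : z * y ≠ 1 := fun e => hz (by rw [← hpz, e, one_pow])
    have h1 : MulAction.stabilizer K (z * y) ≤ MulAction.stabilizer K z := fun k hk => by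
      rw [MulAction.mem_stabilizer_iff] at hk ⊢
      rw [← hpz, hpow, hk]
    have h2 : MulAction.stabilizer K (z * y) ≤ MulAction.stabilizer K y := fun k hk => by
      rw [MulAction.mem_stabilizer_iff] at hk ⊢
      rw [← hpy', hpow, hk]
    have e1 : MulAction.stabilizer K (z * y) = MulAction.stabilizer K z :=
      ((hmax _ hzy).le_iff.1 h1).resolve_left (hmax z hz).1 |>.symm
    have h3 : κ u ∈ MulAction.stabilizer K z := (hCmem u).1 hu
    have h4 := MulAction.mem_stabilizer_iff.1 (h2 (e1.symm.le h3))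
    rw [hκ, mul_inv_eq_iff_eq_mul] at h4
    exact h4
  have hCnil : Group.IsNilpotent C := by
    have hq : IsPGroup p (C ⧸ Subgroup.center C) := fun x => by
      induction x using QuotientGroup.induction_on with
      | H g =>
        obtain ⟨e, m, hm, he⟩ := Nat.exists_eq_pow_mul_and_not_dvd (orderOf_pos g.1).ne' p hpp.ne_one
        refine ⟨e, ?_⟩
        rw [← QuotientGroup.mk_pow, QuotientGroup.eq_one_iff, Subgroup.mem_center_iff]
        intro u
        refine Subtype.ext (hcen _ (C.pow_mem g.2 _) ?_ u.1 u.2)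
        rw [orderOf_pow' _ (pow_ne_zero _ hpp.ne_zero), he, Nat.gcd_eq_right (Dvd.intro m rfl),
          Nat.mul_div_cancel_left _ (pow_pos hpp.pos e)]
        exact hm
    haveI := hq.isNilpotent
    exact Subgroup.isNilpotent_of_ker_le_center (QuotientGroup.mk' (Subgroup.center C))
      (by rw [QuotientGroup.ker_mk'])
  have hPC : (P : Subgroup T) ≤ C := fun u hu => Subgroup.mem_centralizer_singleton_iff.2
    (congrArg Subtype.val (Subgroup.mem_center_iff.1 z'.2 ⟨u, hu⟩))
  -- all p-subgroups of the centraliser lie in the Sylow subgroup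
  have hPmax : ∀ Q : Subgroup T, IsPGroup p Q → Q ≤ C → Q ≤ P := by
    intro Q hQ hQC
    let PC : Sylow p C := P.subtype hPC
    haveI := hCnil
    haveI hn : (PC : Subgroup C).Normal :=
      (Group.isNilpotent_of_finite_tfae.out 0 3 rfl rfl).1 hCnil p inferInstance PC
    haveI : Unique (Sylow p C) := Sylow.unique_of_normal PC hn
    obtain ⟨S, hS⟩ := (hQ.comap_subtype (H := Q) (K := C)).exists_le_sylow
    rw [Subsingleton.elim S PC] at hS
    intro u hu
    exact hS (show (⟨u, hQC hu⟩ : C) ∈ Q.comap C.subtype from hu)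
  have hκi : Function.Injective κ := by
    rw [← MonoidHom.ker_eq_bot_iff]
    refine ((MonoidHom.normal_ker κ).eq_bot_or_eq_top).resolve_right fun h => hns ?_
    refine Group.isSolvable_of_comm fun u x => ?_
    have := hκ u x
    rw [MonoidHom.mem_ker.1 (h.symm.le (Subgroup.mem_top u)), one_smul] at this
    exact (eq_mul_inv_iff_mul_eq.1 this).symm
  choose θ hθ using fun (k : K) (u : T) => (MonoidHom.mem_range.1 (hκn.conj_mem (κ u) ⟨u, rfl⟩ k))
  let Θ : K → (T →* T) := fun k =>
    { toFun := θ k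
      map_one' := hκi (by rw [hθ, map_one, mul_one, mul_inv_cancel])
      map_mul' := fun u v => hκi (by rw [hθ, map_mul, map_mul, hθ, hθ]; group) }
  have hΘ : ∀ k u, κ (Θ k u) = k * κ u * k⁻¹ := hθ
  have hΘi : ∀ k, Function.Injective (Θ k) := fun k u v e => hκi (by
    have := congrArg κ e
    rw [hΘ, hΘ] at this
    exact mul_left_cancel (mul_right_cancel this))
  set W := Cfsg.centerThompsonAOf (P : Subgroup T) with hW
  let M : Subgroup K :=
    { carrier := {k | W.map (Θ k) = W}
      one_mem' := by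
        show W.map (Θ 1) = W
        have : Θ 1 = MonoidHom.id T := MonoidHom.ext fun u => hκi (by rw [hΘ, one_mul, inv_one, mul_one]; rfl)
        rw [this, Subgroup.map_id]
      mul_mem' := fun {k l} (hk : W.map (Θ k) = W) (hl : W.map (Θ l) = W) => by
        show W.map (Θ (k * l)) = W
        have : Θ (k * l) = (Θ k).comp (Θ l) := MonoidHom.ext fun u => hκi (by
          rw [MonoidHom.comp_apply, hΘ, hΘ, hΘ]; group)
        rw [this, ← Subgroup.map_map, hl, hk]
      inv_mem' := fun {k} (hk : W.map (Θ k) = W) => by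
        show W.map (Θ k⁻¹) = W
        conv_lhs => rw [← hk, Subgroup.map_map]
        have : (Θ k⁻¹).comp (Θ k) = MonoidHom.id T := MonoidHom.ext fun u => hκi (by
          rw [MonoidHom.comp_apply, hΘ, hΘ, MonoidHom.id_apply]; group)
        rw [this, Subgroup.map_id] }
  have hSM : MulAction.stabilizer K z ≤ M := by
    intro k hk
    show W.map (Θ k) = W
    have hPk : (P : Subgroup T).map (Θ k) ≤ P := by
      refine hPmax _ (P.isPGroup'.map _) ?_
      rintro _ ⟨u, hu, rfl⟩
      rw [hCmem, hΘ, mul_smul, mul_smul, inv_smul_eq_iff.2 (MulAction.mem_stabilizer_iff.1 hk).symm,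
        (hCmem u).1 (hPC hu), MulAction.mem_stabilizer_iff.1 hk]
    have hPk' : (P : Subgroup T).map (Θ k) = P := Subgroup.eq_of_le_of_card_ge hPk
      (le_of_eq (Subgroup.card_map_of_injective (hΘi k)).symm)
    rw [hW, Cfsg.Lib.Local.GlaubermanZJ.map_centerThompsonAOf' (Θ k) _ (hΘi k).injOn, hPk']
  have hconj : ∀ n : T, Θ (κ n) = (MulAut.conj n).toMonoidHom := fun n => MonoidHom.ext fun u => hκi (by
    rw [hΘ]; simp)
  have hWne : W ≠ ⊥ := Cfsg.Lib.Local.GlaubermanZJ.centerThompsonAOf_ne_bot P.isPGroup' hP1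
  have hWP : W ≤ P := inf_le_left.trans (Subgroup.map_subtype_le _)
  have hM : M = MulAction.stabilizer K z := by
    refine ((hmax z hz).le_iff.1 hSM).resolve_left fun h => ?_
    have hWn : W.Normal := ⟨fun w hw n => by
      have hmem : κ n ∈ M := h.symm.le (Subgroup.mem_top _)
      have hmem' : W.map (Θ (κ n)) = W := hmem
      rw [hconj] at hmem'
      exact hmem'.le ⟨w, hw, rfl⟩⟩
    rcases hWn.eq_bot_or_eq_top with e | e
    · exact hWne e
    · refine hns ?_
      have hTp : IsPGroup p T := IsPGroup.of_equiv (P.isPGroup'.to_le (show (⊤ : Subgroup T) ≤ P from e ▸ hWP))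
        Subgroup.topEquiv
      haveI := hTp.isNilpotent
      infer_instance
  have hN : Subgroup.normalizer (W : Set T) ≤ C := by
    intro n hn
    rw [hCmem]
    refine MulAction.mem_stabilizer_iff.1 (hM.le ?_)
    show W.map (Θ (κ n)) = W
    rw [hconj]
    exact Subgroup.eq_of_le_of_card_ge (by
      rintro _ ⟨w, hw, rfl⟩
      exact (Subgroup.mem_normalizer_iff.1 hn w).1 hw)
      (le_of_eq (Subgroup.card_map_of_injective (MulAut.conj n).injective).symm)
  haveI := Cfsg.Lib.Core.isNilpotent_of_le hN hCnil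
  obtain ⟨S, U, hUn, hUc⟩ := Cfsg.Lib.Local.GlaubermanZJ.complement_of_centerThompsonA hp2 P
    (Cfsg.Lib.Thompson.hasNormalPComplement_of_isNilpotent (p := p))
  rcases hUn.eq_bot_or_eq_top with e | e
  · refine hns ?_
    rw [e, Subgroup.isComplement'_bot_left] at hUc
    have hTp : IsPGroup p T := IsPGroup.of_equiv (S.isPGroup'.to_le hUc.ge) Subgroup.topEquiv
    haveI := hTp.isNilpotent
    infer_instance
  · rw [e, Subgroup.isComplement'_top_left] at hUc
    exact S.ne_bot_of_dvd_card hpd hUc

end Cfsg.Lib.Recog.QuasiPrim
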